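import Cfsg.Agent.Lib.Classical.SL2Tori

/-!
# Involutions of `PSL(2,F)` with products of odd order

Involutions lift to trace-zero elements of determinant one.  Two of them have a product of odd order as
soon as no involution commutes with both, and a pigeonhole count on a conic gives a common partner.
-/

set_option autoImplicit false
set_option linter.unusedSectionVars false
set_option linter.unusedSimpArgs false

open Matrix
open scoped MatrixGroups

namespace CfsgLib.Perm.OddProduct.PSLTwo

variable {F : Type*} [Field F]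

local notation "M2" => Matrix (Fin 2) (Fin 2) F
local notation "PG" => Matrix.ProjectiveSpecialLinearGroup (Fin 2) F
local notation "π" => QuotientGroup.mk' (Subgroup.center (Matrix.SpecialLinearGroup (Fin 2) F))

theorem pi_eq {g h : SL(2, F)} :
    π g = π h ↔ (h : M2) = (g : M2) ∨ (h : M2) = -(g : M2) := by
  rw [QuotientGroup.mk'_eq_mk']
  constructor
  · rintro ⟨z, hz, rfl⟩
    obtain ⟨r, hr, e⟩ := Matrix.SpecialLinearGroup.mem_center_iff.1 hz
    rw [Fintype.card_fin] at hr
    have e' : ((g * z : SL(2, F)) : M2) = r • (g : M2) := by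
      rw [Matrix.SpecialLinearGroup.coe_mul, ← e]
      ext i j
      simp [Matrix.scalar_apply, mul_comm]
    rcases mul_self_eq_one_iff.1 (show r * r = 1 by rw [← pow_two]; exact hr) with rfl | rfl
    · exact Or.inl (by rw [e', one_smul])
    · exact Or.inr (by rw [e', neg_smul, one_smul])
  · intro hgh
    refine ⟨g⁻¹ * h, Matrix.SpecialLinearGroup.mem_center_iff.2 ?_, mul_inv_cancel_left g h⟩
    have hinv : ((g⁻¹ : SL(2, F)) : M2) * (g : M2) = 1 := by
      rw [← Matrix.SpecialLinearGroup.coe_mul, inv_mul_cancel, Matrix.SpecialLinearGroup.coe_one]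
    rcases hgh with e | e
    · refine ⟨1, one_pow _, ?_⟩
      rw [Matrix.SpecialLinearGroup.coe_mul, e, hinv, map_one]
    · refine ⟨-1, by rw [Fintype.card_fin]; simp, ?_⟩
      rw [Matrix.SpecialLinearGroup.coe_mul, e, mul_neg, hinv, map_neg, map_one]

/-- The trace-zero element with entries `a b c`. -/
def mk (a b c : F) (h : -(a * a) - b * c = 1) : SL(2, F) :=
  ⟨!![a, b; c, -a], by rw [Matrix.det_fin_two]; simp; linear_combination h⟩

/-- The standard one. -/
def J : SL(2, F) := mk 0 1 (-1) (by ring)

theorem mk_sq (a b c : F) (h : -(a * a) - b * c = 1) : π (mk a b c h) * π (mk a b c h) = 1 := by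
  rw [← map_mul, ← map_one π, pi_eq]
  refine Or.inr ?_
  rw [Matrix.SpecialLinearGroup.coe_mul, Matrix.SpecialLinearGroup.coe_one]
  ext i j
  fin_cases i <;> fin_cases j <;> simp [mk, Matrix.mul_apply, Fin.sum_univ_two] <;> grind

theorem mk_ne_one (a b c : F) (h : -(a * a) - b * c = 1) (hne : (2 : F) ≠ 0 ∨ b ≠ 0 ∨ c ≠ 0) :
    π (mk a b c h) ≠ 1 := by
  intro e
  rw [← map_one π, pi_eq, Matrix.SpecialLinearGroup.coe_one] at e
  rcases e with e | e <;>
    (have e00 := congrFun (congrFun e 0) 0
     have e01 := congrFun (congrFun e 0) 1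
     have e10 := congrFun (congrFun e 1) 0
     have e11 := congrFun (congrFun e 1) 1
     simp [mk] at e00 e01 e10 e11
     grind)

theorem exists_coord {y : PG} (h1 : y ≠ 1) (h2 : y * y = 1) :
    ∃ a b c : F, ∃ h : -(a * a) - b * c = 1, π (mk a b c h) = y ∧ ((2 : F) ≠ 0 ∨ b ≠ 0 ∨ c ≠ 0) := by
  obtain ⟨g, rfl⟩ := QuotientGroup.mk'_surjective _ y
  rw [← map_mul, ← map_one π, pi_eq, Matrix.SpecialLinearGroup.coe_mul, Matrix.SpecialLinearGroup.coe_one] at h2
  have hd : (g : M2) 0 0 * (g : M2) 1 1 - (g : M2) 0 1 * (g : M2) 1 0 = 1 := by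
    rw [← Matrix.det_fin_two]; exact g.2
  have hns : ¬ ((g : M2) 0 1 = 0 ∧ (g : M2) 1 0 = 0 ∧ (g : M2) 0 0 = (g : M2) 1 1) := by
    rintro ⟨e1, e2, e3⟩
    refine h1 ((QuotientGroup.eq_one_iff g).2 (Matrix.SpecialLinearGroup.mem_center_iff.2 ⟨(g : M2) 0 0, ?_, ?_⟩))
    · rw [Fintype.card_fin]; rw [e1, ← e3] at hd; linear_combination hd
    · ext i j
      fin_cases i <;> fin_cases j <;> simp [Matrix.scalar_apply, e1, e2, e3]
  have ht : (g : M2) 1 1 = -(g : M2) 0 0 := by
    by_contra ht
    apply hns
    rcases h2 with e | e <;>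
      (have e00 := congrFun (congrFun e 0) 0
       have e01 := congrFun (congrFun e 0) 1
       have e10 := congrFun (congrFun e 1) 0
       have e11 := congrFun (congrFun e 1) 1
       simp [Matrix.mul_apply, Fin.sum_univ_two] at e00 e01 e10 e11
       grind)
  refine ⟨(g : M2) 0 0, (g : M2) 0 1, (g : M2) 1 0, by rw [ht] at hd; linear_combination hd, ?_, ?_⟩
  · refine congrArg π (Subtype.ext ?_)
    ext i j
    fin_cases i <;> fin_cases j <;> simp [mk, ht]
  · by_contra hc
    push Not at hc
    exact hns ⟨hc.2.1, hc.2.2, by rw [ht]; linear_combination (g : M2) 0 0 * hc.1⟩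

theorem comm_cases {a b c α β γ : F} {h : -(a * a) - b * c = 1} {k : -(α * α) - β * γ = 1}
    (e : π (mk a b c h) * π (mk α β γ k) = π (mk α β γ k) * π (mk a b c h)) :
    (b * γ = c * β ∧ 2 * (a * β - b * α) = 0 ∧ 2 * (c * α - a * γ) = 0) ∨ 2 * a * α + b * γ + c * β = 0 := by
  rw [← map_mul, ← map_mul, pi_eq] at e
  simp only [Matrix.SpecialLinearGroup.coe_mul] at e
  rcases e with e | e
  · left
    have e00 := congrFun (congrFun e 0) 0
    have e01 := congrFun (congrFun e 0) 1
    have e10 := congrFun (congrFun e 1) 0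
    simp [mk, Matrix.mul_apply, Fin.sum_univ_two] at e00 e01 e10
    exact ⟨by grind, by grind, by grind⟩
  · right
    have e00 := congrFun (congrFun e 0) 0
    simp [mk, Matrix.mul_apply, Fin.sum_univ_two] at e00
    grind

theorem eq_of_prop {a b c α β γ : F} {h : -(a * a) - b * c = 1} {k : -(α * α) - β * γ = 1}
    (h2 : (2 : F) ≠ 0) (e1 : b * γ = c * β) (e2 : 2 * (a * β - b * α) = 0) (e3 : 2 * (c * α - a * γ) = 0) :
    π (mk a b c h) = π (mk α β γ k) := by
  have f2 : a * β = b * α := sub_eq_zero.1 ((mul_eq_zero.1 e2).resolve_left h2)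
  have f3 : c * α = a * γ := sub_eq_zero.1 ((mul_eq_zero.1 e3).resolve_left h2)
  set l := -(a * α + b * γ) with hl
  have ha : α = l * a := by rw [hl]; grind
  have hb : β = l * b := by rw [hl]; grind
  have hc : γ = l * c := by rw [hl]; grind
  have hl2 : l * l = 1 := by rw [ha, hb, hc] at k; linear_combination k - l * l * h
  rw [pi_eq]
  rcases mul_self_eq_one_iff.1 hl2 with e | e
  · left
    ext i j
    fin_cases i <;> fin_cases j <;> simp [mk, ha, hb, hc, e]
  · right
    ext i j
    fin_cases i <;> fin_cases j <;> simp [mk, ha, hb, hc, e]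

theorem comm_odd {a b c α β γ : F} {h : -(a * a) - b * c = 1} {k : -(α * α) - β * γ = 1} (h2 : (2 : F) ≠ 0)
    (e : π (mk a b c h) * π (mk α β γ k) = π (mk α β γ k) * π (mk a b c h)) :
    π (mk a b c h) = π (mk α β γ k) ∨ 2 * a * α + b * γ + c * β = 0 :=
  (comm_cases e).imp_left fun ⟨e1, e2, e3⟩ => eq_of_prop h2 e1 e2 e3

theorem comm_two {a b c α β γ : F} {h : -(a * a) - b * c = 1} {k : -(α * α) - β * γ = 1} (h2 : (2 : F) = 0)
    (e : π (mk a b c h) * π (mk α β γ k) = π (mk α β γ k) * π (mk a b c h)) : b * γ = c * β := by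
  rcases comm_cases e with ⟨e1, -, -⟩ | e1
  · exact e1
  · linear_combination e1 - (a * α + c * β) * h2

/-- If the product has even order, an involution commutes with both. -/
theorem exists_common {G : Type*} [Group G] [Finite G] {x z : G} (hx : x * x = 1) (hz : z * z = 1)
    (he : ¬ Odd (orderOf (x * z))) : ∃ i : G, i ≠ 1 ∧ i * i = 1 ∧ x * i = i * x ∧ z * i = i * z := by
  obtain ⟨r, hr⟩ := Nat.not_odd_iff_even.1 he
  have hpos := orderOf_pos (x * z)
  set g := x * z with hg
  have hxg : x * g * x⁻¹ = g⁻¹ := by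
    rw [hg, _root_.mul_inv_rev, inv_eq_of_mul_eq_one_right hx, inv_eq_of_mul_eq_one_right hz]
    rw [← mul_assoc x x z, hx, one_mul]
  have hi : g ^ r * g ^ r = 1 := by rw [← pow_add, ← hr, pow_orderOf_eq_one]
  have hxi : x * g ^ r = g ^ r * x := by
    have := congrArg (fun u => u ^ r) hxg
    simp only [conj_pow, inv_pow] at this
    rw [inv_eq_of_mul_eq_one_right hi] at this
    exact mul_inv_eq_iff_eq_mul.1 this
  refine ⟨g ^ r, pow_ne_one_of_lt_orderOf (by omega) (by omega), hi, hxi, ?_⟩
  have hzg : z = x * g := by rw [hg, ← mul_assoc, hx, one_mul]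
  rw [hzg, mul_assoc, (Commute.self_pow g r).eq, ← mul_assoc, hxi, mul_assoc]

variable [Fintype F]

theorem conj_J (a b c : F) (h : -(a * a) - b * c = 1) (hne : (2 : F) ≠ 0 ∨ b ≠ 0 ∨ c ≠ 0) :
    IsConj (π (J (F := F))) (π (mk a b c h)) := by
  classical
  obtain ⟨v, w, hD⟩ : ∃ v w : F, -(c * v * v - 2 * a * v * w - b * w * w) ≠ 0 := by
    by_cases hc : c = 0
    · by_cases hb : b = 0
      · refine ⟨1, 1, fun e => ?_⟩
        have h2 := (hne.resolve_right (by simp [hb, hc]))
        subst hb hc
        have ha : a ≠ 0 := fun ha => by subst ha; simp at h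
        have : (2 * a : F) = 0 := by linear_combination e
        exact mul_ne_zero h2 ha this
      · exact ⟨0, 1, by simpa using hb⟩
    · exact ⟨1, 0, by simpa using hc⟩
  set D := -(c * v * v - 2 * a * v * w - b * w * w) with hDdef
  obtain ⟨p, q, hpq⟩ : ∃ p q : F, p * p + q * q = D⁻¹ := by
    by_cases hchar : ringChar F = 2
    · obtain ⟨p, hp⟩ := FiniteField.isSquare_of_char_two hchar D⁻¹
      exact ⟨p, 0, by rw [hp]; ring⟩
    · obtain ⟨p, q, hpq⟩ := FiniteField.exists_root_sum_quadratic (R := F)
        (f := Polynomial.X ^ 2 - Polynomial.C D⁻¹) (g := Polynomial.X ^ 2)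
        (Polynomial.degree_X_pow_sub_C (by norm_num) _) (Polynomial.degree_X_pow 2)
        (FiniteField.odd_card_of_char_ne_two hchar)
      simp at hpq
      exact ⟨p, q, by linear_combination hpq⟩
  -- columns `v` and `-A v`, twisted by the centraliser of `J`
  let M : M2 := !![v, -(a * v + b * w); w, -(c * v - a * w)] * !![p, q; -q, p]
  have hM : M.det = 1 := by
    simp only [M, Matrix.det_mul, Matrix.det_fin_two_of]
    calc _ = D * (p * p + q * q) := by rw [hDdef]; ring
      _ = 1 := by rw [hpq, mul_inv_cancel₀ hD]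
  let g : SL(2, F) := ⟨M, hM⟩
  refine isConj_iff.2 ⟨π g, mul_inv_eq_iff_eq_mul.2 ?_⟩
  rw [← map_mul, ← map_mul]
  refine congrArg π (Subtype.ext ?_)
  rw [Matrix.SpecialLinearGroup.coe_mul, Matrix.SpecialLinearGroup.coe_mul]
  ext i j
  fin_cases i <;> fin_cases j <;> simp [g, M, J, mk, Matrix.mul_apply, Fin.sum_univ_two] <;> grind

theorem isConj_of_involution {x y : PG} (hx : x ≠ 1) (hx2 : x * x = 1) (hy : y ≠ 1) (hy2 : y * y = 1) :
    IsConj x y := by
  obtain ⟨a, b, c, h, rfl, hn⟩ := exists_coord hx hx2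
  obtain ⟨a', b', c', h', rfl, hn'⟩ := exists_coord hy hy2
  exact (conj_J a b c h hn).symm.trans (conj_J a' b' c' h' hn')

/-- The condition on the trace of a product. -/
def Good (t : F) : Prop := 4 - t * t = 0 ∨ ¬ IsSquare (4 - t * t)

theorem odd_of_good {a b c a' b' c' : F} {h : -(a * a) - b * c = 1} {h' : -(a' * a') - b' * c' = 1}
    (h2 : (2 : F) ≠ 0) (hgood : Good (2 * a * a' + b * c' + c * b')) :
    Odd (orderOf (π (mk a b c h) * π (mk a' b' c' h'))) := by
  classical
  set t := 2 * a * a' + b * c' + c * b' with ht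
  by_cases h4 : 4 - t * t = 0
  · -- unipotent
    obtain ⟨p, hp⟩ := CharP.exists F
    haveI : Fact p.Prime := ⟨CharP.char_is_prime F p⟩
    have hodd : Odd p := (Fact.out : p.Prime).odd_of_ne_two fun e => h2 (by
      subst e; exact_mod_cast CharP.cast_eq_zero F 2)
    have key : ∀ {α β γ : F} (k : -(α * α) - β * γ = 1), 2 * a * α + b * γ + c * β = 2 →
        Odd (orderOf (π (mk a b c h) * π (mk α β γ k))) := by
      intro α β γ k hk
      rw [← map_mul]
      refine hodd.of_dvd_nat ((orderOf_map_dvd π _).trans (orderOf_dvd_of_pow_eq_one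
        (CfsgLib.Classical.sl2_pow_char p _ ?_)))
      rw [Matrix.SpecialLinearGroup.coe_mul, Matrix.det_fin_two]
      simp [mk, Matrix.mul_apply, Fin.sum_univ_two]
      grind
    rcases mul_self_eq_mul_self_iff.1 (show t * t = 2 * 2 by linear_combination -h4) with e | e
    · exact key h' e
    · have k : -((-a') * (-a')) - (-b') * (-c') = 1 := by linear_combination h'
      have : π (mk a' b' c' h') = π (mk (-a') (-b') (-c') k) := by
        rw [pi_eq]
        right
        ext i j
        fin_cases i <;> fin_cases j <;> simp [mk]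
      rw [this]
      exact key k (by linear_combination -e)
  have hns : ¬ IsSquare (4 - t * t) := hgood.resolve_left h4
  by_contra he
  obtain ⟨i, hi1, hi2, hxi, hzi⟩ := exists_common (mk_sq a b c h) (mk_sq a' b' c' h') he
  obtain ⟨α, β, γ, k, rfl, -⟩ := exists_coord hi1 hi2
  have ht0 : t ≠ 0 := fun e => hns (e ▸ ⟨2, by norm_num⟩)
  rcases comm_odd h2 hxi with e | e <;> rcases comm_odd h2 hzi with e' | e'
  · -- equal involutions
    apply h4
    rcases pi_eq.1 (e.trans e'.symm) with e'' | e'' <;>
      (have e00 := congrFun (congrFun e'' 0) 0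
       have e01 := congrFun (congrFun e'' 0) 1
       have e10 := congrFun (congrFun e'' 1) 0
       simp [mk] at e00 e01 e10
       grind)
  · apply ht0
    rcases pi_eq.1 e with e'' | e'' <;>
      (have e00 := congrFun (congrFun e'' 0) 0
       have e01 := congrFun (congrFun e'' 0) 1
       have e10 := congrFun (congrFun e'' 1) 0
       simp [mk] at e00 e01 e10
       grind)
  · apply ht0
    rcases pi_eq.1 e' with e'' | e'' <;>
      (have e00 := congrFun (congrFun e'' 0) 0
       have e01 := congrFun (congrFun e'' 0) 1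
       have e10 := congrFun (congrFun e'' 1) 0
       simp [mk] at e00 e01 e10
       grind)
  · -- the Gram determinant
    apply hns
    refine ⟨a * (b' * γ - c' * β) - b * (a' * γ - c' * α) + c * (a' * β - b' * α), ?_⟩
    set M := a * (b' * γ - c' * β) - b * (a' * γ - c' * α) + c * (a' * β - b' * α)
    have key : -2 * (M * M) =
        (2 * (a * a + b * c)) * ((2 * (a' * a' + b' * c')) * (2 * (α * α + β * γ)) -
            (2 * a' * α + b' * γ + c' * β) * (2 * a' * α + b' * γ + c' * β))
          - t * (t * (2 * (α * α + β * γ)) - (2 * a' * α + b' * γ + c' * β) * (2 * a * α + b * γ + c * β))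
          + (2 * a * α + b * γ + c * β) * (t * (2 * a' * α + b' * γ + c' * β)
            - (2 * (a' * a' + b' * c')) * (2 * a * α + b * γ + c * β)) := by
      simp only [M, ht]; ring
    rw [show a * a + b * c = -1 by linear_combination -h, show a' * a' + b' * c' = -1 by linear_combination -h',
      show α * α + β * γ = -1 by linear_combination -k, e, e'] at key
    refine mul_left_cancel₀ h2 ?_
    linear_combination key

theorem odd_of_not_comm {a b c a' b' c' : F} {h : -(a * a) - b * c = 1} {h' : -(a' * a') - b' * c' = 1}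
    (h2 : (2 : F) = 0) (hne : b * c' ≠ c * b') :
    Odd (orderOf (π (mk a b c h) * π (mk a' b' c' h'))) := by
  by_contra he
  obtain ⟨i, hi1, hi2, hxi, hzi⟩ := exists_common (mk_sq a b c h) (mk_sq a' b' c' h') he
  obtain ⟨α, β, γ, k, rfl, hn⟩ := exists_coord hi1 hi2
  have e1 := comm_two h2 hxi
  have e2 := comm_two h2 hzi
  apply hne
  rcases hn with hn | hn | hn
  · exact absurd h2 hn
  · refine mul_left_cancel₀ hn ?_
    linear_combination b' * e1 - b * e2
  · refine mul_left_cancel₀ hn ?_
    linear_combination c' * e1 - c * e2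

/-- Pigeonhole: a good value for which the conic has a point. -/
theorem exists_good (hi : ¬ IsSquare (-1 : F)) (h2 : (2 : F) ≠ 0) {k : F} (hk : k ≠ 0) (s : F) :
    ∃ u : F, IsSquare (u * u - 4) ∧ IsSquare (-(k * k) - (u + s) * (u + s)) := by
  classical
  set G : Finset F := {u | IsSquare (u * u - 4)}
  set U : Finset F := {u | IsSquare (-(k * k) - (u + s) * (u + s))}
  set B : Finset F := {u | IsSquare (k * k + (u + s) * (u + s))}
  have hcard : (Finset.univ.erase (0 : F)).card + 1 = Fintype.card F := by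
    rw [Finset.card_erase_of_mem (Finset.mem_univ _), Finset.card_univ]
    have := Fintype.card_pos (α := F); omega
  -- the complement of `U` is small
  have hUB : Finset.univ \ U ⊆ B := by
    intro u hu
    simp only [U, Finset.mem_sdiff, Finset.mem_filter, Finset.mem_univ, true_and] at hu
    simp only [B, Finset.mem_filter, Finset.mem_univ, true_and]
    by_contra hns
    have : -(k * k) - (u + s) * (u + s) = -1 * (k * k + (u + s) * (u + s)) := by ring
    rw [this] at hu
    have h1 := quadraticChar_neg_one_iff_not_isSquare.2 hi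
    have h3 := quadraticChar_neg_one_iff_not_isSquare.2 hns
    have hne0 : (-1 : F) * (k * k + (u + s) * (u + s)) ≠ 0 := fun e => hns ⟨0, by linear_combination -e⟩
    exact hu ((quadraticChar_one_iff_isSquare hne0).1 (by rw [map_mul, h1, h3]; rfl))
  have hne : ∀ u, k * k + (u + s) * (u + s) ≠ 0 := fun u e => hi ⟨(u + s) / k, by
    field_simp; linear_combination -e⟩
  have hB : 2 * B.card ≤ (Finset.univ.erase (0 : F)).card := by
    have hex : ∀ u ∈ B, ∃ e : F, k * k + (u + s) * (u + s) = e * e := fun u hu => (Finset.mem_filter.1 hu).2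
    choose! e he using hex
    let f : F × Bool → F := fun z => if z.2 then (z.1 + s) + e z.1 else (z.1 + s) - e z.1
    have hf : ∀ z : F × Bool, z.1 ∈ B → f z * ((z.1 + s) + (z.1 + s) - f z) = -(k * k) := by
      intro z hz
      have := he _ hz
      simp only [f]
      split_ifs <;> linear_combination this
    have := Finset.card_le_card_of_injOn f (s := B ×ˢ (Finset.univ : Finset Bool))
      (t := Finset.univ.erase (0 : F)) (fun z hz => by
        have hz' := (Finset.mem_product.1 (Finset.mem_coe.1 hz)).1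
        refine Finset.mem_coe.2 (Finset.mem_erase.2 ⟨fun h0 => ?_, Finset.mem_univ _⟩)
        have := hf z hz'
        rw [h0, zero_mul, eq_comm, neg_eq_zero] at this
        exact mul_ne_zero hk hk this)
      (fun z hz z' hz' hzz => by
        have hz1 := (Finset.mem_product.1 (Finset.mem_coe.1 hz)).1
        have hz1' := (Finset.mem_product.1 (Finset.mem_coe.1 hz')).1
        have e1 := hf z hz1
        have e2 := hf z' hz1'
        rw [← hzz] at e2
        have hf0 : f z ≠ 0 := fun h0 => by
          rw [h0, zero_mul, eq_comm, neg_eq_zero] at e1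
          exact mul_ne_zero hk hk e1
        have hu : z.1 = z'.1 := by
          have := mul_left_cancel₀ hf0 (e1.trans e2.symm)
          refine mul_left_cancel₀ h2 ?_
          linear_combination this
        obtain ⟨u, i⟩ := z
        obtain ⟨u', i'⟩ := z'
        subst hu
        have hne' : e u ≠ 0 := fun h0 => hne u (by rw [he u hz1, h0, zero_mul])
        cases i <;> cases i' <;> simp only [f, if_true, Bool.false_eq_true, if_false] at hzz <;>
          first
          | rfl
          | exact absurd (show (2 : F) * e u = 0 by linear_combination hzz) (mul_ne_zero h2 hne')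
          | exact absurd (show (2 : F) * e u = 0 by linear_combination -hzz) (mul_ne_zero h2 hne'))
    simpa [Finset.card_product, mul_comm] using this
  have hG : Fintype.card F + 1 ≤ 2 * G.card := by
    have h1 : (1 : F) ≠ -1 := fun e => h2 (by linear_combination e)
    set S : Finset F := Finset.univ \ {0, 1, -1}
    set T : Finset F := G \ {2, -2}
    have hmaps : ∀ r ∈ S, r + r⁻¹ ∈ T := by
      intro r hr
      simp only [S, Finset.mem_sdiff, Finset.mem_insert, Finset.mem_singleton, not_or] at hr
      obtain ⟨-, r0, r1, r2⟩ := hr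
      simp only [T, G, Finset.mem_sdiff, Finset.mem_filter, Finset.mem_univ, true_and, Finset.mem_insert,
        Finset.mem_singleton, not_or]
      refine ⟨⟨r - r⁻¹, by field_simp; ring⟩, fun e => r1 ?_, fun e => r2 ?_⟩
      · have : (r - 1) * (r - 1) = 0 := by field_simp at e; linear_combination e
        exact sub_eq_zero.1 (mul_self_eq_zero.1 this)
      · have : (r + 1) * (r + 1) = 0 := by field_simp at e; linear_combination e
        exact eq_neg_of_add_eq_zero_left (mul_self_eq_zero.1 this)
    have hfib := Finset.card_le_mul_card_image_of_maps_to hmaps 2 (fun u _ => by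
      by_cases hex : ({r ∈ S | r + r⁻¹ = u} : Finset F).Nonempty
      · obtain ⟨r₀, hr₀⟩ := hex
        simp only [S, Finset.mem_filter, Finset.mem_sdiff, Finset.mem_insert, Finset.mem_singleton, not_or] at hr₀
        refine (Finset.card_le_card (t := {r₀, r₀⁻¹}) fun r hr => ?_).trans Finset.card_le_two
        simp only [S, Finset.mem_filter, Finset.mem_sdiff, Finset.mem_insert, Finset.mem_singleton, not_or] at hr
        have hr0 : r ≠ 0 := hr.1.2.1
        have hr00 : r₀ ≠ 0 := hr₀.1.2.1
        have : (r - r₀) * (r * r₀ - 1) = 0 := by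
          have e := hr.2.trans hr₀.2.symm
          field_simp at e
          linear_combination e
        rcases mul_eq_zero.1 this with e | e
        · simp [sub_eq_zero.1 e]
        · simp [eq_inv_of_mul_eq_one_left (sub_eq_zero.1 e)]
      · simp [Finset.not_nonempty_iff_eq_empty.1 hex])
    have hS : S.card + 3 = Fintype.card F := by
      have : ({0, 1, -1} : Finset F).card = 3 := by simp [h1]
      have h' := Finset.card_sdiff_add_card_eq_card (Finset.subset_univ ({0, 1, -1} : Finset F))
      rw [this, Finset.card_univ] at h'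
      exact h'
    have hT : T.card + 2 = G.card := by
      have : ({2, -2} : Finset F).card = 2 := Finset.card_pair fun e => h2 (mul_self_eq_zero.1
        (show (2 : F) * 2 = 0 by linear_combination e))
      have h' := Finset.card_sdiff_add_card_eq_card (show ({2, -2} : Finset F) ⊆ G by
        intro u hu
        simp only [Finset.mem_insert, Finset.mem_singleton] at hu
        simp only [G, Finset.mem_filter, Finset.mem_univ, true_and]
        exact ⟨0, by rcases hu with rfl | rfl <;> ring⟩)
      rw [this] at h'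
      exact h'
    omega
  have hint : (G ∩ U).Nonempty := by
    by_contra hem
    rw [Finset.not_nonempty_iff_eq_empty] at hem
    have h1 := Finset.card_union_add_card_inter G U
    rw [hem, Finset.card_empty] at h1
    have h3 := Finset.card_le_univ (G ∪ U)
    have h4 := Finset.card_sdiff_add_card_eq_card (Finset.subset_univ U)
    have h5 := Finset.card_le_card hUB
    rw [Finset.card_univ] at h4
    omega
  obtain ⟨u, hu⟩ := hint
  simp only [G, U, Finset.mem_inter, Finset.mem_filter, Finset.mem_univ, true_and] at hu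
  exact ⟨u, hu⟩

theorem good_of_square (hi : ¬ IsSquare (-1 : F)) {t : F} (ht : IsSquare (t * t - 4)) : Good t := by
  obtain ⟨v, hv⟩ := ht
  by_cases hv0 : v = 0
  · exact Or.inl (by rw [hv0] at hv; linear_combination -hv)
  · refine Or.inr fun ⟨e, he⟩ => hi ⟨e / v, ?_⟩
    field_simp
    linear_combination he + hv

/-- Two involutions have a partner with both products of odd order. -/
theorem exists_partner (hF : 4 ≤ Fintype.card F) {x y : PG} (hx : x ≠ 1) (hx2 : x * x = 1) (hy : y ≠ 1)
    (hy2 : y * y = 1) :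
    ∃ z : PG, z ≠ 1 ∧ z * z = 1 ∧ Odd (orderOf (x * z)) ∧ Odd (orderOf (y * z)) := by
  classical
  obtain ⟨a, b, c, h, rfl, hn⟩ := exists_coord hx hx2
  obtain ⟨a', b', c', h', rfl, hn'⟩ := exists_coord hy hy2
  by_cases h2 : (2 : F) = 0
  · have key : ∀ {α β γ : F} (k : -(α * α) - β * γ = 1), (β ≠ 0 ∨ γ ≠ 0) → b * γ ≠ c * β → b' * γ ≠ c' * β →
        ∃ z : PG, z ≠ 1 ∧ z * z = 1 ∧ Odd (orderOf (π (mk a b c h) * z)) ∧
          Odd (orderOf (π (mk a' b' c' h') * z)) := fun k hk e1 e2 =>
      ⟨_, mk_ne_one _ _ _ k (Or.inr hk), mk_sq _ _ _ k, odd_of_not_comm h2 e1, odd_of_not_comm h2 e2⟩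
    have hb : b ≠ 0 ∨ c ≠ 0 := hn.resolve_left (fun e => e h2)
    have hb' : b' ≠ 0 ∨ c' ≠ 0 := hn'.resolve_left (fun e => e h2)
    by_cases g1 : b * (-1) ≠ c * 1 ∧ b' * (-1) ≠ c' * 1
    · exact key (α := 0) (β := 1) (γ := -1) (by ring) (Or.inl one_ne_zero) g1.1 g1.2
    by_cases g2 : b * 0 ≠ c * 1 ∧ b' * 0 ≠ c' * 1
    · exact key (α := 1) (β := 1) (γ := 0) (by linear_combination -h2) (Or.inl one_ne_zero) g2.1 g2.2
    refine key (α := 1) (β := 0) (γ := 1) (by linear_combination -h2) (Or.inr one_ne_zero) ?_ ?_ <;> grind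
  set s := 2 * a * a' + b * c' + c * b' with hs
  clear_value s
  by_cases hgs : Good s
  · refine ⟨_, hy, mk_sq a' b' c' h', odd_of_good h2 (hs ▸ hgs), ?_⟩
    rw [mk_sq a' b' c' h', orderOf_one]
    exact odd_one
  have hgs' := not_or.1 hgs
  obtain ⟨d, hd⟩ := not_not.1 hgs'.2
  have hd0 : d ≠ 0 := fun e => hgs'.1 (by rw [hd, e, zero_mul])
  have hD : 4 - s * s ≠ 0 := hgs'.1
  have build : ∀ t u v : F, v * v = (4 - s * s) - t * t - u * u - s * t * u → Good t → Good u →
      ∃ z : PG, z ≠ 1 ∧ z * z = 1 ∧ Odd (orderOf (π (mk a b c h) * z)) ∧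
          Odd (orderOf (π (mk a' b' c' h') * z)) := by
    intro t u v hv gt gu
    set D := 4 - s * s with hDdef
    set α := -(2 * t + s * u) / D with hα
    set β := -(s * t + 2 * u) / D with hβ
    set γ := v / D with hγ
    set n0 := b * c' - c * b' with hn0
    set n1 := 2 * (a * b' - b * a') with hn1
    set n2 := 2 * (c * a' - a * c') with hn2
    have hN : -(n0 * n0) - n1 * n2 = D := by
      rw [hDdef, hs, hn0, hn1, hn2]
      linear_combination -4 * (a' * a' + b' * c') * h + 4 * h'
    have hq : α * α + β * β - s * α * β + γ * γ * D = 1 := by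
      rw [hα, hβ, hγ]
      field_simp
      rw [hDdef] at *
      linear_combination (4 - s * s) * hv
    have hdet : -((α * a + β * a' + γ * n0) * (α * a + β * a' + γ * n0)) -
        (α * b + β * b' + γ * n1) * (α * c + β * c' + γ * n2) = 1 := by
      have hAN : 2 * a * n0 + b * n2 + c * n1 = 0 := by rw [hn0, hn1, hn2]; ring
      have hBN : 2 * a' * n0 + b' * n2 + c' * n1 = 0 := by rw [hn0, hn1, hn2]; ring
      linear_combination α * α * h + β * β * h' + γ * γ * hN + hq + (α * β) * hs - α * γ * hAN - β * γ * hBN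
    have htA : 2 * a * (α * a + β * a' + γ * n0) + b * (α * c + β * c' + γ * n2) + c * (α * b + β * b' + γ * n1) = t := by
      have e : -2 * α + s * β = t := by
        rw [hα, hβ]; field_simp; rw [hDdef]; ring
      rw [hn0, hn1, hn2]
      linear_combination e - 2 * α * h - β * hs
    have htB : 2 * a' * (α * a + β * a' + γ * n0) + b' * (α * c + β * c' + γ * n2) + c' * (α * b + β * b' + γ * n1) = u := by
      have e : s * α - 2 * β = u := by
        rw [hα, hβ]; field_simp; rw [hDdef]; ring
      rw [hn0, hn1, hn2]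
      linear_combination e - 2 * β * h' - α * hs
    exact ⟨_, mk_ne_one _ _ _ hdet (Or.inl h2), mk_sq _ _ _ hdet, odd_of_good h2 (by rw [htA]; exact gt),
      odd_of_good h2 (by rw [htB]; exact gu)⟩
  by_cases hi : IsSquare (-1 : F)
  · obtain ⟨i, hi⟩ := hi
    exact build 2 2 (i * (s + 2)) (by linear_combination -(s + 2) * (s + 2) * hi) (Or.inl (by norm_num)) (Or.inl (by norm_num))
  obtain ⟨r, -, hr⟩ : ∃ r ∈ (Finset.univ : Finset F), r ∉ ({0, 1, -1} : Finset F) :=
    Finset.exists_mem_notMem_of_card_lt_card (by rw [Finset.card_univ]; exact lt_of_le_of_lt Finset.card_le_three (by omega))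
  simp only [Finset.mem_insert, Finset.mem_singleton, not_or] at hr
  obtain ⟨r0, r1, r2⟩ := hr
  have hw : r - r⁻¹ ≠ 0 := fun e => by
    have : (r - 1) * (r + 1) = 0 := by field_simp at e; linear_combination e
    rcases mul_eq_zero.1 this with e' | e'
    exacts [r1 (sub_eq_zero.1 e'), r2 (eq_neg_of_add_eq_zero_left e')]
  set t := r + r⁻¹ with ht
  clear_value t
  obtain ⟨u, hu, v, hv⟩ := exists_good hi h2 (k := d * (r - r⁻¹) / 2) (div_ne_zero (mul_ne_zero hd0 hw) h2)
    (s * t / 2)
  have htw : t * t - 4 = (r - r⁻¹) * (r - r⁻¹) := by rw [ht]; field_simp; ring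
  refine build t u v ?_ (good_of_square hi ⟨_, htw⟩) (good_of_square hi hu)
  rw [← hv]
  field_simp
  have hT : r * r * (t * t - 4) = (r * r - 1) * (r * r - 1) := by
    rw [htw]; field_simp
  linear_combination (r * r - 1) * (r * r - 1) * hd + (4 - s * s) * hT

/-- Two distinct commuting involutions. -/
theorem exists_commuting (hF : 4 ≤ Fintype.card F) :
    ∃ x y : PG, x ≠ 1 ∧ x * x = 1 ∧ y ≠ 1 ∧ y * y = 1 ∧ x ≠ y ∧ x * y = y * x := by
  classical
  obtain ⟨a, b, hab, hdis⟩ : ∃ a b : F, -(a * a) - b * b = 1 ∧ ((2 : F) ≠ 0 ∨ (a ≠ 0 ∧ b ≠ 0)) := by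
    by_cases h2 : (2 : F) = 0
    · obtain ⟨a, -, ha⟩ : ∃ a ∈ (Finset.univ : Finset F), a ∉ ({0, 1} : Finset F) :=
        Finset.exists_mem_notMem_of_card_lt_card (by rw [Finset.card_univ]; exact lt_of_le_of_lt Finset.card_le_two (by omega))
      simp only [Finset.mem_insert, Finset.mem_singleton, not_or] at ha
      refine ⟨a, 1 + a, by linear_combination -(a * a + a + 1) * h2, Or.inr ⟨ha.1, fun e => ha.2 ?_⟩⟩
      linear_combination e - h2
    · obtain ⟨a, b, hab⟩ := FiniteField.exists_root_sum_quadratic (R := F)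
        (f := Polynomial.X ^ 2 - Polynomial.C (-1)) (g := Polynomial.X ^ 2)
        (Polynomial.degree_X_pow_sub_C (by norm_num) _) (Polynomial.degree_X_pow 2)
        (FiniteField.odd_card_of_char_ne_two fun e => h2 (by
          haveI := ringChar.of_eq e
          exact_mod_cast CharP.cast_eq_zero F 2))
      simp at hab
      exact ⟨a, b, by linear_combination -hab, Or.inl h2⟩
  have hne : (2 : F) ≠ 0 ∨ b ≠ 0 ∨ b ≠ 0 := hdis.imp_right fun e => Or.inl e.2
  refine ⟨π J, π (mk a b b hab), mk_ne_one _ _ _ _ (Or.inr (Or.inl one_ne_zero)), mk_sq _ _ _ _,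
    mk_ne_one _ _ _ _ hne, mk_sq _ _ _ _, ?_, ?_⟩
  · intro e
    rcases pi_eq.1 e with e' | e' <;>
      (have e00 := congrFun (congrFun e' 0) 0
       have e01 := congrFun (congrFun e' 0) 1
       have e10 := congrFun (congrFun e' 1) 0
       simp [J, mk] at e00 e01 e10
       grind)
  · rw [← map_mul, ← map_mul, pi_eq]
    right
    rw [Matrix.SpecialLinearGroup.coe_mul, Matrix.SpecialLinearGroup.coe_mul]
    ext i j
    fin_cases i <;> fin_cases j <;> simp [J, mk, Matrix.mul_apply, Fin.sum_univ_two] <;> ring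

end CfsgLib.Perm.OddProduct.PSLTwo
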