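import Mathlib

/-!
# Two involutions and a small change of one of them

For involutions `x`, `y` the product `y * x` is inverted by `x`.  Changing `x` by a permutation of small
support changes the cycles of the product only at the points of the support, and the new periods are
sums of distances along the old cycles.
-/

set_option autoImplicit false
set_option linter.unusedSectionVars false

namespace CfsgLib.Perm.OddProduct

open Equiv

variable {α : Type*} [DecidableEq α] [Fintype α]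

/-- The period of a point. -/
noncomputable def per (σ : Perm α) (v : α) : ℕ := MulAction.period σ v

theorem per_pos (σ : Perm α) (v : α) : 0 < per σ v :=
  MulAction.period_pos_of_fixed (orderOf_pos σ) (by rw [pow_orderOf_eq_one, one_smul])

theorem zpow_fix {σ : Perm α} {v : α} {i : ℤ} : (σ ^ i) v = v ↔ (per σ v : ℤ) ∣ i :=
  MulAction.zpow_smul_eq_iff_period_dvd (g := σ) (a := v)

theorem pow_fix {σ : Perm α} {v : α} {i : ℕ} : (σ ^ i) v = v ↔ per σ v ∣ i :=
  MulAction.pow_smul_eq_iff_period_dvd (m := σ) (a := v)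

theorem zpow_eq_iff {σ : Perm α} {v : α} {i j : ℤ} :
    (σ ^ i) v = (σ ^ j) v ↔ (per σ v : ℤ) ∣ j - i := by
  rw [← zpow_fix, show (σ ^ j) v = (σ ^ i) ((σ ^ (j - i)) v) by rw [← Perm.mul_apply, ← zpow_add, add_sub_cancel],
    (σ ^ i).injective.eq_iff, eq_comm]

theorem per_zpow (σ : Perm α) (v : α) (i : ℤ) : per σ ((σ ^ i) v) = per σ v := by
  have : ∀ k : ℤ, (σ ^ k) ((σ ^ i) v) = (σ ^ i) v ↔ (σ ^ k) v = v := fun k => by
    rw [← Perm.mul_apply, ← zpow_add, add_comm, zpow_add, Perm.mul_apply, (σ ^ i).injective.eq_iff]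
  refine Nat.dvd_antisymm ?_ ?_
  · exact Int.natCast_dvd_natCast.1 (zpow_fix.1 ((this _).2 (zpow_fix.2 (dvd_refl _))))
  · exact Int.natCast_dvd_natCast.1 (zpow_fix.1 ((this _).1 (zpow_fix.2 (dvd_refl _))))

theorem per_sameCycle {σ : Perm α} {u v : α} (h : σ.SameCycle u v) : per σ u = per σ v := by
  obtain ⟨i, rfl⟩ := h
  exact (per_zpow σ u i).symm

/-- An odd period. -/
def OddPer (σ : Perm α) (v : α) : Prop := ∃ r : ℕ, Odd r ∧ (σ ^ r) v = v

theorem oddPer_iff {σ : Perm α} {v : α} : OddPer σ v ↔ Odd (per σ v) := by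
  constructor
  · rintro ⟨r, hr, h⟩
    exact hr.of_dvd_nat (pow_fix.1 h)
  · exact fun h => ⟨_, h, pow_fix.2 (dvd_refl _)⟩

theorem oddPer_of_pow {σ : Perm α} {v : α} {i : ℕ} (h : OddPer σ ((σ ^ i) v)) : OddPer σ v := by
  obtain ⟨r, hr, e⟩ := h
  refine ⟨r, hr, (σ ^ i).injective ?_⟩
  rw [← Perm.mul_apply, ← pow_add, add_comm, pow_add, Perm.mul_apply, e]

theorem odd_orderOf {σ : Perm α} (h : ∀ v, OddPer σ v) : Odd (orderOf σ) := by
  choose r hr e using h
  refine (Finset.prod_induction (s := Finset.univ) r Odd (fun a b ha hb => ha.mul hb) odd_one fun v _ => hr v).of_dvd_nat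
    (orderOf_dvd_of_pow_eq_one (Equiv.ext fun v => ?_))
  obtain ⟨c, hc⟩ := Finset.dvd_prod_of_mem r (Finset.mem_univ v)
  rw [hc, Perm.one_apply]
  exact pow_fix.2 (dvd_mul_of_dvd_left (pow_fix.1 (e v)) c)

variable {x y : Perm α}

/-- Both are involutions or the identity. -/
structure Invols (x y : Perm α) : Prop where
  x2 : ∀ v, x (x v) = v
  y2 : ∀ v, y (y v) = v

theorem Invols.x_mul (h : Invols x y) : x * x = 1 := Equiv.ext h.x2

theorem Invols.x_inv (h : Invols x y) : x⁻¹ = x := inv_eq_of_mul_eq_one_right h.x_mul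

theorem Invols.x_zpow (h : Invols x y) (i : ℤ) (v : α) :
    x (((y * x) ^ i) v) = ((y * x) ^ (-i)) (x v) := by
  have hy : y⁻¹ = y := inv_eq_of_mul_eq_one_right (Equiv.ext h.y2)
  have e : x * (y * x) * x⁻¹ = (y * x)⁻¹ := by
    rw [mul_inv_rev, hy, h.x_inv, mul_assoc x, mul_assoc y, h.x_mul, mul_one]
  have := congrArg (fun f => f ^ i) e
  simp only [conj_zpow, inv_zpow, ← zpow_neg] at this
  rw [mul_inv_eq_iff_eq_mul] at this
  exact DFunLike.congr_fun this v

theorem Invols.x_apply (h : Invols x y) (v : α) : x ((y * x) v) = ((y * x) ^ (-1 : ℤ)) (x v) := by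
  simpa using h.x_zpow 1 v

theorem Invols.sc_x (h : Invols x y) {u v : α} (e : (y * x).SameCycle u v) :
    (y * x).SameCycle (x u) (x v) := by
  obtain ⟨i, rfl⟩ := e
  exact ⟨-i, (h.x_zpow i u).symm⟩

theorem Invols.per_x (h : Invols x y) (v : α) : per (y * x) (x v) = per (y * x) v := by
  have : ∀ k : ℤ, ((y * x) ^ k) (x v) = x v ↔ ((y * x) ^ (-k)) v = v := fun k => by
    rw [← x.injective.eq_iff (a := ((y * x) ^ (-k)) v), h.x_zpow, neg_neg]
  refine Nat.dvd_antisymm ?_ ?_ <;> refine Int.natCast_dvd_natCast.1 ?_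
  · exact zpow_fix.1 ((this _).2 (zpow_fix.2 ((dvd_refl _).neg_right)))
  · exact dvd_neg.1 (zpow_fix.1 ((this _).1 (zpow_fix.2 (dvd_refl _))))

/-- The change of `x` made by conjugating with `g`. -/
def chg (x g : Perm α) : Perm α := x * g * x * g⁻¹

theorem Invols.conj_eq (h : Invols x y) (g : Perm α) : g * x * g⁻¹ = x * chg x g := by
  rw [chg, ← mul_assoc, ← mul_assoc, ← mul_assoc, h.x_mul, one_mul]

theorem chg_apply (x g : Perm α) (u : α) : chg x g (g u) = x (g (x u)) := by simp [chg]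

theorem chg_mem {S : Finset α} {g : Perm α} (hg : ∀ v ∉ S, g v = v) {v : α} (hv : v ∈ S) :
    g v ∈ S ∧ g⁻¹ v ∈ S := by
  constructor
  · by_contra h
    have := g.injective (hg _ h)
    rw [this] at h; exact h hv
  · by_contra h
    have := hg _ h
    simp only [Perm.coe_inv, Equiv.apply_symm_apply] at this
    exact h (this ▸ hv)

theorem Invols.chg_out (h : Invols x y) {S : Finset α} {g : Perm α} (hS : ∀ v ∈ S, x v ∈ S)
    (hg : ∀ v ∉ S, g v = v) {v : α} (hv : v ∉ S) : chg x g v = v := by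
  have hx : x v ∉ S := fun e => hv (by simpa [h.x2] using hS _ e)
  have : g⁻¹ v = v := Perm.inv_eq_iff_eq.2 (hg v hv).symm
  simp only [chg, Perm.mul_apply, this, hg _ hx, h.x2]

theorem Invols.chg_in (_h : Invols x y) {S : Finset α} {g : Perm α} (hS : ∀ v ∈ S, x v ∈ S)
    (hg : ∀ v ∉ S, g v = v) {v : α} (hv : v ∈ S) : chg x g v ∈ S := by
  simp only [chg, Perm.mul_apply]
  exact hS _ (chg_mem hg (hS _ (chg_mem hg hv).2)).1

theorem Invols.chg_mul (h : Invols x y) {S T : Finset α} (hd : Disjoint S T) {g k : Perm α}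
    (hS : ∀ v ∈ S, x v ∈ S) (hg : ∀ v ∉ S, g v = v) (hT : ∀ v ∈ T, x v ∈ T) (hk : ∀ v ∉ T, k v = v)
    (v : α) : (v ∈ S → chg x (g * k) v = chg x g v) ∧ (v ∈ T → chg x (g * k) v = chg x k v) ∧
      (v ∉ S → v ∉ T → chg x (g * k) v = v) := by
  have hgk : g * k = k * g := (Perm.Disjoint.commute fun u => by
    by_cases hu : u ∈ S
    · exact Or.inr (hk u (Finset.disjoint_left.1 hd hu))
    · exact Or.inl (hg u hu)).eq
  have one : ∀ {S T : Finset α}, Disjoint S T → ∀ {g k : Perm α}, (∀ v ∈ S, x v ∈ S) → (∀ v ∉ S, g v = v) →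
      (∀ v ∉ T, k v = v) → v ∈ S → chg x (g * k) v = chg x g v := by
    intro S T hd g k hS hg hk hv
    have h1 := (chg_mem hg hv).2
    have h2 : k⁻¹ (g⁻¹ v) = g⁻¹ v :=
      Perm.inv_eq_iff_eq.2 (hk _ (Finset.disjoint_left.1 hd h1)).symm
    simp only [chg, mul_inv_rev, Perm.mul_apply, h2, hk _ (Finset.disjoint_left.1 hd (hS _ h1))]
  refine ⟨fun hv => one hd hS hg hk hv, fun hv => ?_, fun h1 h2 => ?_⟩
  · rw [hgk]; exact one hd.symm hT hk hg hv
  · refine h.chg_out (S := S ∪ T) (fun u hu => ?_) (fun u hu => ?_) (by simp [h1, h2])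
    · rcases Finset.mem_union.1 hu with hu | hu
      · exact Finset.mem_union_left _ (hS u hu)
      · exact Finset.mem_union_right _ (hT u hu)
    · simp only [Finset.mem_union, not_or] at hu
      rw [Perm.mul_apply, hk u hu.2, hg u hu.1]

/-- `E` is invariant under `x` and the product. -/
def Inv (x y : Perm α) (E : Finset α) : Prop := ∀ v ∈ E, x v ∈ E ∧ (y * x) v ∈ E

/-- `x` can be changed inside `E` so as to make both products of odd order there. -/
def Solvable (x y : Perm α) (E : Finset α) : Prop :=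
  ∃ g : Perm α, (∀ v ∉ E, g v = v) ∧ (∀ v ∈ E, chg x g (chg x g (chg x g v)) = v) ∧
    ∀ v ∈ E, OddPer (y * x * chg x g) v

theorem pow_agree {a b : Perm α} {E : Finset α} (hE : ∀ v ∈ E, a v = b v) (hb : ∀ v ∈ E, b v ∈ E) :
    ∀ (r : ℕ), ∀ v ∈ E, (a ^ r) v = (b ^ r) v ∧ (b ^ r) v ∈ E
  | 0, v, hv => ⟨rfl, by simpa using hv⟩
  | r + 1, v, hv => by
    obtain ⟨e, hm⟩ := pow_agree hE hb r v hv
    rw [pow_succ', pow_succ', Perm.mul_apply, Perm.mul_apply, e]
    exact ⟨hE _ hm, hb _ hm⟩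

theorem Solvable.union (h : Invols x y) {E F : Finset α} (hd : Disjoint E F) (hE : Inv x y E) (hF : Inv x y F)
    (sE : Solvable x y E) (sF : Solvable x y F) : Solvable x y (E ∪ F) := by
  obtain ⟨g, g1, g2, g3⟩ := sE
  obtain ⟨k, k1, k2, k3⟩ := sF
  have hm := h.chg_mul hd (fun v hv => (hE v hv).1) g1 (fun v hv => (hF v hv).1) k1
  have hgin := fun v hv => h.chg_in (fun v hv => (hE v hv).1) g1 (v := v) hv
  have hkin := fun v hv => h.chg_in (fun v hv => (hF v hv).1) k1 (v := v) hv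
  refine ⟨g * k, fun v hv => ?_, fun v hv => ?_, fun v hv => ?_⟩
  · simp only [Finset.mem_union, not_or] at hv
    rw [Perm.mul_apply, k1 v hv.2, g1 v hv.1]
  · rcases Finset.mem_union.1 hv with hv | hv
    · rw [(hm v).1 hv, (hm _).1 (hgin v hv), (hm _).1 (hgin _ (hgin v hv)), g2 v hv]
    · rw [(hm v).2.1 hv, (hm _).2.1 (hkin v hv), (hm _).2.1 (hkin _ (hkin v hv)), k2 v hv]
  · rcases Finset.mem_union.1 hv with hv | hv
    · obtain ⟨r, hr, e⟩ := g3 v hv
      refine ⟨r, hr, ((pow_agree (b := y * x * chg x g) (fun u hu => ?_) (fun u hu => ?_) r v hv).1).trans e⟩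
      · rw [Perm.mul_apply, Perm.mul_apply _ (chg x g), (hm u).1 hu]
      · rw [Perm.mul_apply _ (chg x g)]; exact (hE _ (hgin u hu)).2
    · obtain ⟨r, hr, e⟩ := k3 v hv
      refine ⟨r, hr, ((pow_agree (b := y * x * chg x k) (fun u hu => ?_) (fun u hu => ?_) r v hv).1).trans e⟩
      · rw [Perm.mul_apply, Perm.mul_apply _ (chg x k), (hm u).2.1 hu]
      · rw [Perm.mul_apply _ (chg x k)]; exact (hF _ (hkin u hu)).2

theorem pow_out {σ π : Perm α} {S : Finset α} (hπ : ∀ v ∉ S, π v = v) (v : α) :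
    ∀ i : ℕ, (∀ j < i, (σ ^ j) v ∉ S) → ((σ * π) ^ i) v = (σ ^ i) v
  | 0, _ => rfl
  | i + 1, hi => by
    rw [pow_succ', pow_succ', Perm.mul_apply, Perm.mul_apply, Perm.mul_apply,
      pow_out hπ v i (fun j hj => hi j (hj.trans (Nat.lt_succ_self i))), hπ _ (hi i (Nat.lt_succ_self i))]

/-- A change of small support gives a solution where every even cycle meets the support. -/
theorem gadget (h : Invols x y) {E S : Finset α} (hSE : S ⊆ E) (hS : ∀ v ∈ S, x v ∈ S)
    (g : Perm α) (hg : ∀ v ∉ S, g v = v) (h3 : ∀ v ∈ S, chg x g (chg x g (chg x g v)) = v)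
    (hper : ∀ v ∈ S, OddPer (y * x * chg x g) v)
    (hcov : ∀ v ∈ E, OddPer (y * x) v ∨ ∃ s ∈ S, (y * x).SameCycle v s) : Solvable x y E := by
  have hout := fun v hv => h.chg_out hS hg (v := v) hv
  refine ⟨g, fun v hv => hg v fun e => hv (hSE e), fun v _ => ?_, fun v hv => ?_⟩
  · by_cases hvS : v ∈ S
    · exact h3 v hvS
    · rw [hout v hvS, hout v hvS, hout v hvS]
  · by_cases hex : ∃ i, ((y * x) ^ i) v ∈ S
    · have hi := Nat.find_spec hex
      refine oddPer_of_pow (i := Nat.find hex) ?_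
      rw [pow_out hout v _ fun j hj => Nat.find_min hex hj]
      exact hper _ hi
    · push Not at hex
      rcases hcov v hv with ⟨r, hr, e⟩ | ⟨s, hs, e⟩
      · exact ⟨r, hr, (pow_out hout v r fun j _ => hex j).trans e⟩
      · obtain ⟨i, rfl⟩ := e.exists_nat_pow_eq
        exact absurd hs (hex i)

/-! ### Segments -/

/-- The point `i` steps along the cycle of `v`. -/
def pt (σ : Perm α) (i : ℤ) (v : α) : α := (σ ^ i) v

theorem pt_zero (σ : Perm α) (v : α) : pt σ 0 v = v := rfl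

/-- `l` steps of the new product take `a` to `b`. -/
def St (σ' : Perm α) (a : α) (l : ℕ) (b : α) : Prop := (σ' ^ l) a = b

theorem St.trans {σ' : Perm α} {a b c : α} {l m : ℕ} (h : St σ' a l b) (h' : St σ' b m c) :
    St σ' a (l + m) c := by
  rw [St, add_comm, pow_add, Perm.mul_apply, h, h']

/-- On a cycle of old product, `s` is not met within `l` steps from `b`. -/
def Avoid (σ : Perm α) (b : α) (l : ℕ) (s : α) : Prop :=
  ¬ σ.SameCycle b s ∨ ∃ k : ℤ, (σ ^ k) b = s ∧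
    ((k ≤ 0 ∧ (l : ℤ) ≤ per σ b + k) ∨ ((l : ℤ) ≤ k ∧ k ≤ per σ b))

theorem avoid_same {σ : Perm α} {v : α} {i j : ℤ} {l : ℕ}
    (hk : (j ≤ i ∧ (l : ℤ) ≤ per σ v + (j - i)) ∨ ((l : ℤ) ≤ j - i ∧ j - i ≤ per σ v)) :
    Avoid σ (pt σ i v) l (pt σ j v) := by
  refine Or.inr ⟨j - i, ?_, ?_⟩
  · rw [pt, pt, ← Perm.mul_apply, ← zpow_add, sub_add_cancel]
  · rw [pt, per_zpow]
    omega

theorem avoid_other {σ : Perm α} {u v : α} (huv : ¬ σ.SameCycle u v) {i j : ℤ} {l : ℕ} :
    Avoid σ (pt σ i u) l (pt σ j v) :=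
  Or.inl fun e => huv (Perm.sameCycle_zpow_right.1 (Perm.sameCycle_zpow_left.1 e))

theorem seg {σ π : Perm α} {S : Finset α} (hπ : ∀ v ∉ S, π v = v) {a b : α} (hab : π a = b) {l : ℕ}
    (hl : 0 < l) (hav : ∀ s ∈ S, Avoid σ b l s) : St (σ * π) a l ((σ ^ l) b) := by
  obtain ⟨n, rfl⟩ : ∃ n, l = n + 1 := ⟨l - 1, by omega⟩
  have hmiss : ∀ i, 0 < i → i < n + 1 → (σ ^ i) b ∉ S := by
    intro i hi1 hi2 hiS
    rcases hav _ hiS with e | ⟨k, hk, hb⟩
    · exact e ⟨i, by rw [zpow_natCast]⟩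
    · rw [← zpow_natCast σ i, zpow_eq_iff] at hk
      obtain ⟨c, hc⟩ := hk
      have hL := per_pos σ b
      have hi1' : (0 : ℤ) < i := by exact_mod_cast hi1
      have hi2' : (i : ℤ) < (n + 1 : ℕ) := by exact_mod_cast hi2
      rcases hb with ⟨h1, h2⟩ | ⟨h1, h2⟩
      · have : 0 < c := by by_contra hh; push Not at hh; nlinarith
        have : c < 1 := by by_contra hh; push Not at hh; nlinarith
        omega
      · have : c < 0 := by by_contra hh; push Not at hh; nlinarith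
        have : -1 < c := by by_contra hh; push Not at hh; nlinarith
        omega
  show ((σ * π) ^ (n + 1)) a = _
  rw [pow_succ, pow_succ, Perm.mul_apply, Perm.mul_apply (σ ^ n), Perm.mul_apply σ, hab,
    pow_out hπ _ n fun j hj => ?_]
  rw [← Perm.mul_apply, ← pow_succ]
  exact hmiss _ (Nat.succ_pos j) (by omega)

theorem seg_pt {σ π : Perm α} {S : Finset α} (hπ : ∀ v ∉ S, π v = v) {a v : α} {i j : ℤ}
    (hab : π a = pt σ i v) (l : ℕ) (hl : 0 < l) (hij : i + l = j ∨ i + l = j + per σ v)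
    (hav : ∀ s ∈ S, Avoid σ (pt σ i v) l s) : St (σ * π) a l (pt σ j v) := by
  have := seg hπ hab hl hav
  rw [pt, ← zpow_natCast, ← Perm.mul_apply, ← zpow_add] at this
  rw [pt]
  refine (show ((σ * π) ^ l) a = _ from this).trans (zpow_eq_iff.2 ?_)
  rcases hij with e | e
  · exact ⟨0, by omega⟩
  · exact ⟨-1, by omega⟩

theorem St.oddPer {σ' : Perm α} {a : α} {l : ℕ} (h : St σ' a l a) (hl : Odd l) : OddPer σ' a := ⟨l, hl, h⟩

/-- Oddness spreads along a segment. -/
theorem St.spread {σ' : Perm α} {a b : α} {l : ℕ} (h : St σ' a l b) (hb : OddPer σ' b) : OddPer σ' a :=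
  oddPer_of_pow (i := l) (by rw [show (σ' ^ l) a = b from h]; exact hb)

end CfsgLib.Perm.OddProduct
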