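import Cfsg.Agent.Lib.Perm.OddProduct.TwinMoves

/-!
# Two conjugate involutions of a symmetric group have a common odd partner
-/

set_option autoImplicit false
set_option linter.unusedSectionVars false
set_option linter.unusedSimpArgs false

namespace CfsgLib.Perm.OddProduct

open Equiv

variable {α : Type*} [DecidableEq α] [Fintype α] {x y : Perm α}

/-- The points of even period with `x v = σ ^ e v`. -/
noncomputable def sol (x y : Perm α) (e : ℤ) (E : Finset α) : Finset α :=
  {v ∈ E | x v = ((y * x) ^ e) v ∧ Even (per (y * x) v)}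

theorem mem_sol {e : ℤ} {E : Finset α} {v : α} :
    v ∈ sol x y e E ↔ v ∈ E ∧ x v = ((y * x) ^ e) v ∧ Even (per (y * x) v) := by simp [sol]

theorem sol_split (e : ℤ) {E U : Finset α} (hU : U ⊆ E) :
    (sol x y e (E \ U)).card + (sol x y e U).card = (sol x y e E).card := by
  rw [← Finset.card_union_of_disjoint]
  · congr 1
    ext v
    simp only [Finset.mem_union, mem_sol, Finset.mem_sdiff]
    constructor
    · rintro (⟨⟨a, -⟩, c⟩ | ⟨a, c⟩)
      exacts [⟨a, c⟩, ⟨hU a, c⟩]
    · rintro ⟨a, c⟩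
      by_cases hv : v ∈ U
      exacts [Or.inr ⟨hv, c⟩, Or.inl ⟨⟨a, hv⟩, c⟩]
  · rw [Finset.disjoint_left]
    exact fun v hv hv' => (Finset.mem_sdiff.1 (mem_sol.1 hv).1).2 (mem_sol.1 hv').1

/-- Both kinds of special points on even cycles are equally many. -/
def Bal (x y : Perm α) (E : Finset α) : Prop := (sol x y 0 E).card = (sol x y 1 E).card

/-- A seed carrying no special points. -/
def Neutral (x y : Perm α) (s : α) : Prop := Twin x y s ∨ Odd (per (y * x) s)

theorem Neutral.no_sol (h : Invols x y) {s u : α} (hs : Neutral x y s) (e : (y * x).SameCycle u s) (c : ℤ) :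
    ¬ (x u = ((y * x) ^ c) u ∧ Even (per (y * x) u)) := by
  rintro ⟨hu, hev⟩
  rcases hs with ht | ho
  · refine ht.ne ?_
    have h1 : (y * x).SameCycle u (x u) := ⟨c, hu.symm⟩
    exact e.symm.trans (h1.trans (h.sc_x e))
  · exact (Nat.not_even_iff_odd.2 ho) (per_sameCycle e ▸ hev)

theorem cross (h : Invols x y) {p u : α} {c d : ℤ} (hp : x p = ((y * x) ^ c) p) (hev : Even (per (y * x) p))
    (hu : x u = ((y * x) ^ d) u) (e : (y * x).SameCycle p u) : Even (c - d) := by
  obtain ⟨k, rfl⟩ := e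
  rw [h.x_zpow, hp, ← Perm.mul_apply, ← zpow_add, ← Perm.mul_apply, ← zpow_add, zpow_eq_iff] at hu
  obtain ⟨q, hq⟩ := hu
  obtain ⟨L, hL⟩ := hev
  rw [hL] at hq
  exact ⟨k - (L : ℤ) * q, by push_cast at hq ⊢; linarith⟩

theorem two_sol (h : Invols x y) {E : Finset α} (hE : Inv x y E) {v : α} (hv : v ∈ E) {c : ℤ}
    (hc : x v = ((y * x) ^ c) v) (hev : Even (per (y * x) v)) {u : α} :
    (u ∈ E ∧ (y * x).SameCycle u v ∧ x u = ((y * x) ^ c) u) ↔
      (u = v ∨ u = pt (y * x) ((per (y * x) v / 2 : ℕ) : ℤ) v) := by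
  set n := per (y * x) v / 2 with hn
  have hnn : (n : ℤ) + n = per (y * x) v := by
    obtain ⟨k, hk⟩ := hev
    push_cast [hn, hk]
    omega
  have key : ∀ k : ℤ, x (((y * x) ^ k) v) = ((y * x) ^ c) (((y * x) ^ k) v) ↔ (per (y * x) v : ℤ) ∣ 2 * k := by
    intro k
    rw [h.x_zpow, hc, ← Perm.mul_apply, ← zpow_add, ← Perm.mul_apply, ← zpow_add, zpow_eq_iff]
    rw [show c + k - (-k + c) = 2 * k by ring]
  have hclosed : ∀ (i : ℕ), ((y * x) ^ i) v ∈ E := fun i => by
    induction i with
    | zero => simpa using hv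
    | succ i ih => rw [pow_succ', Perm.mul_apply]; exact (hE _ ih).2
  constructor
  · rintro ⟨-, e, hu⟩
    obtain ⟨k, rfl⟩ := e.symm
    obtain ⟨q, hq⟩ := (key k).1 hu
    have hk : k = (n : ℤ) * q := by rw [← hnn] at hq; linarith
    rcases Int.even_or_odd q with ⟨r, rfl⟩ | ⟨r, rfl⟩
    · left
      exact zpow_fix.2 ⟨r, by rw [hk, ← hnn]; ring⟩
    · right
      exact zpow_eq_iff.2 ⟨-r, by rw [hk, ← hnn]; ring⟩
  · rintro (rfl | rfl)
    · exact ⟨hv, Perm.SameCycle.refl _ _, hc⟩
    · refine ⟨?_, Perm.sameCycle_zpow_left.2 (Perm.SameCycle.refl _ _), (key _).2 ⟨1, by omega⟩⟩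
      rw [pt, zpow_natCast]; exact hclosed n

theorem bal_neutral (h : Invols x y) {E S : Finset α} (hb : Bal x y E) (hS : ∀ s ∈ S, Neutral x y s) :
    Bal x y (E \ orb (y * x) E S) := by
  have hzero : ∀ c, (sol x y c (orb (y * x) E S)).card = 0 := by
    intro c
    rw [Finset.card_eq_zero, Finset.eq_empty_iff_forall_notMem]
    intro u hu
    obtain ⟨hu, hc⟩ := mem_sol.1 hu
    obtain ⟨-, s, hs, e⟩ := mem_orb.1 hu
    exact (hS s hs).no_sol h e c hc
  have h0 := sol_split (x := x) (y := y) 0 (show orb (y * x) E S ⊆ E from Finset.filter_subset _ _)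
  have h1 := sol_split (x := x) (y := y) 1 (show orb (y * x) E S ⊆ E from Finset.filter_subset _ _)
  rw [hzero] at h0 h1
  unfold Bal at *
  omega

theorem bal_pair (h : Invols x y) {E S : Finset α} (hE : Inv x y E) (hb : Bal x y E) {p w : α}
    (hpS : p ∈ S) (hwS : w ∈ S) (hpE : p ∈ E) (hwE : w ∈ E) (hp : x p = (y * x) p) (hw : x w = w)
    (hep : Even (per (y * x) p)) (hew : Even (per (y * x) w))
    (hS : ∀ s ∈ S, Neutral x y s ∨ (y * x).SameCycle s p ∨ (y * x).SameCycle s w) :
    Bal x y (E \ orb (y * x) E S) := by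
  have card2 : ∀ (c : ℤ) (v v' : α) (c' : ℤ), v ∈ S → v ∈ E → x v = ((y * x) ^ c) v → Even (per (y * x) v) →
      x v' = ((y * x) ^ c') v' → Even (per (y * x) v') → ¬ Even (c' - c) →
      (∀ s ∈ S, Neutral x y s ∨ (y * x).SameCycle s v ∨ (y * x).SameCycle s v') →
      (sol x y c (orb (y * x) E S)).card = 2 := by
    intro c v v' c' hvS hvE hv hev hv' hev' hodd hall
    set n := per (y * x) v / 2
    have heq : sol x y c (orb (y * x) E S) = {v, pt (y * x) (n : ℤ) v} := by
      ext u
      simp only [mem_sol, mem_orb, Finset.mem_insert, Finset.mem_singleton]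
      rw [← two_sol h hE hvE hv hev]
      constructor
      · rintro ⟨⟨huE, s, hs, e⟩, hu⟩
        refine ⟨huE, ?_, hu.1⟩
        rcases hall s hs with hn | e' | e'
        · exact absurd hu (hn.no_sol h e c)
        · exact e.trans e'
        · exact absurd (cross h hv' hev' hu.1 (e.trans e').symm) hodd
      · rintro ⟨huE, e, hu⟩
        exact ⟨⟨huE, v, hvS, e⟩, hu, per_sameCycle e ▸ hev⟩
    have := even_two hev
    rw [heq, Finset.card_pair]
    exact ne_same (i := 0) (v := v) (by omega) (by omega) (by omega)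
  have h0 := sol_split (x := x) (y := y) 0 (show orb (y * x) E S ⊆ E from Finset.filter_subset _ _)
  have h1 := sol_split (x := x) (y := y) 1 (show orb (y * x) E S ⊆ E from Finset.filter_subset _ _)
  have hp1 : x p = ((y * x) ^ (1 : ℤ)) p := by simpa using hp
  have hw0 : x w = ((y * x) ^ (0 : ℤ)) w := by simpa using hw
  rw [card2 0 w p 1 hwS hwE hw0 hew hp1 hep (by decide) fun s hs => (hS s hs).imp_right Or.symm] at h0
  rw [card2 1 p w 0 hpS hpE hp1 hep hw0 hew (by decide) hS] at h1
  unfold Bal at *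
  omega

theorem special_of_even (h : Invols x y) {E : Finset α} (hE : Inv x y E) {v : α} (hv : v ∈ E)
    (hev : Even (per (y * x) v)) (hsc : (y * x).SameCycle v (x v)) :
    ∃ c : ℤ, (c = 0 ∨ c = 1) ∧ (sol x y c E).Nonempty := by
  have hclosed : ∀ (i : ℕ), ((y * x) ^ i) v ∈ E := fun i => by
    induction i with
    | zero => simpa using hv
    | succ i ih => rw [pow_succ', Perm.mul_apply]; exact (hE _ ih).2
  have mem : ∀ k : ℤ, ((y * x) ^ k) v ∈ E := fun k => by
    obtain ⟨i, hi⟩ := (Perm.SameCycle.exists_nat_pow_eq (f := y * x) (x := v) ⟨k, rfl⟩)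
    exact hi ▸ hclosed i
  obtain ⟨k, hk⟩ := hsc
  rcases Int.even_or_odd k with ⟨r, hr⟩ | ⟨r, hr⟩
  · refine ⟨0, Or.inl rfl, ((y * x) ^ r) v, mem_sol.2 ⟨mem r, ?_, by rwa [per_zpow]⟩⟩
    rw [h.x_zpow, ← hk, ← Perm.mul_apply, ← zpow_add, hr, zpow_zero, Perm.one_apply]
    congr 2; ring
  · refine ⟨1, Or.inr rfl, ((y * x) ^ r) v, mem_sol.2 ⟨mem r, ?_, by rwa [per_zpow]⟩⟩
    rw [h.x_zpow, ← hk, ← Perm.mul_apply, ← zpow_add, hr, ← Perm.mul_apply, ← zpow_add]
    congr 2; ring

theorem exists_pair_seeds {E : Finset α} (hb : Bal x y E) {c : ℤ}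
    (hc : c = 0 ∨ c = 1) (hne : (sol x y c E).Nonempty) :
    ∃ p w, p ∈ E ∧ w ∈ E ∧ x p = (y * x) p ∧ x w = w ∧ Even (per (y * x) p) ∧ Even (per (y * x) w) := by
  have h2 : (sol x y 0 E).Nonempty ∧ (sol x y 1 E).Nonempty := by
    unfold Bal at hb
    rw [← Finset.card_pos, ← Finset.card_pos] at *
    rcases hc with rfl | rfl <;> omega
  obtain ⟨⟨w, hw⟩, ⟨p, hp⟩⟩ := h2
  obtain ⟨hwE, hw, hew⟩ := mem_sol.1 hw
  obtain ⟨hpE, hp, hep⟩ := mem_sol.1 hp
  exact ⟨p, w, hpE, hwE, by simpa using hp, by simpa using hw, hep, hew⟩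

theorem pair_apart (h : Invols x y) {p w : α} (hp : x p = (y * x) p) (hw : x w = w)
    (hep : Even (per (y * x) p)) : ¬ (y * x).SameCycle p w := fun e => by
  have := cross h (c := 1) (d := 0) (by simpa using hp) hep (by simpa using hw) e
  revert this; decide

theorem solvable_plain (h : Invols x y) : ∀ (N : ℕ) (E : Finset α), E.card < N → Inv x y E → Bal x y E →
    (∀ v ∈ E, Even (per (y * x) v) → (y * x).SameCycle v (x v)) → Solvable x y E := by
  intro N
  induction N with
  | zero => intro E hE; omega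
  | succ N ih =>
    intro E hcard hE hb hno
    by_cases hall : ∀ v ∈ E, Odd (per (y * x) v)
    · exact gadget h (Finset.empty_subset E) (by simp) 1 (by simp) (by simp) (by simp)
        fun v hv => Or.inl (oddPer_iff.2 (hall v hv))
    push Not at hall
    obtain ⟨v, hv, hev⟩ := hall
    replace hev := Nat.not_odd_iff_even.1 hev
    obtain ⟨c, hc, hne⟩ := special_of_even h hE hv hev (hno v hv hev)
    obtain ⟨p, w, hpE, hwE, hp, hw, hep, hew⟩ := exists_pair_seeds hb hc hne
    have m := move_pair h hp hw hep hew (pair_apart h hp hw hep)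
    have hSE : ({p, x p, w} : Finset α) ⊆ E := by simp [Finset.insert_subset_iff, hpE, hwE, (hE p hpE).1]
    refine m.remove h hE hSE (ih _ ?_ (inv_rest h hE m.1)
      (bal_pair h hE hb (by simp) (by simp) hpE hwE hp hw hep hew ?_) fun u hu => hno u (Finset.mem_sdiff.1 hu).1)
    · have : (E \ orb (y * x) E {p, x p, w}).card < E.card :=
        Finset.card_lt_card ⟨Finset.sdiff_subset, fun hsub => (Finset.mem_sdiff.1 (hsub hpE)).2
          (mem_orb.2 ⟨hpE, p, by simp, Perm.SameCycle.refl _ _⟩)⟩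
      omega
    · simp only [Finset.mem_insert, Finset.mem_singleton, forall_eq_or_imp, forall_eq]
      exact ⟨Or.inr (Or.inl (Perm.SameCycle.refl _ _)), Or.inr (Or.inl ⟨-1, by rw [hp]; simp⟩),
        Or.inr (Or.inr (Perm.SameCycle.refl _ _))⟩

theorem Twin.flip (h : Invols x y) {p : α} (t : Twin x y p) : Twin x y (x p) :=
  ⟨by rw [h.x2]; exact t.symm h⟩

theorem Twin.zpow (h : Invols x y) {p : α} (t : Twin x y p) (i : ℤ) : Twin x y (pt (y * x) i p) := by
  refine ⟨fun e => t.ne ?_⟩
  rw [x_pt h] at e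
  exact Perm.sameCycle_zpow_right.1 (Perm.sameCycle_zpow_left.1 e)

/-- The orbit of a new twin pair lies outside an old one. -/
theorem outside (h : Invols x y) {E S : Finset α} {p v : α} (hp : p ∈ S) (hS : ∀ s ∈ S, x s ∈ S)
    (hv : v ∈ E) (hn : v ∉ orb (y * x) E S) :
    ¬ (y * x).SameCycle p v ∧ ¬ (y * x).SameCycle p (x v) :=
  ⟨fun e => hn (mem_orb.2 ⟨hv, p, hp, e.symm⟩),
    fun e => hn (mem_orb.2 ⟨hv, x p, hS p hp, by simpa [h.x2] using (h.sc_x e).symm⟩)⟩

theorem card_rest_lt {E S : Finset α} {p : α} (hp : p ∈ S) (hpE : p ∈ E) :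
    (E \ orb (y * x) E S).card < E.card :=
  Finset.card_lt_card ⟨Finset.sdiff_subset, fun hsub => (Finset.mem_sdiff.1 (hsub hpE)).2
    (mem_orb.2 ⟨hpE, p, hp, Perm.SameCycle.refl _ _⟩)⟩

/-- A twin pair of even length. -/
def IsC (x y : Perm α) (v : α) : Prop := Twin x y v ∧ Even (per (y * x) v)

theorem Inv.pow_mem {E : Finset α} (hE : Inv x y E) {v : α} (hv : v ∈ E) (k : ℤ) :
    pt (y * x) k v ∈ E := by
  obtain ⟨i, hi⟩ := (Perm.SameCycle.exists_nat_pow_eq (f := y * x) (x := v) ⟨k, rfl⟩)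
  rw [pt, ← hi]
  clear hi
  induction i with
  | zero => simpa using hv
  | succ i ih => rw [pow_succ', Perm.mul_apply]; exact (hE _ ih).2

theorem solvable_main (h : Invols x y) : ∀ (N : ℕ) (E : Finset α), E.card < N → Inv x y E → Bal x y E →
    ((∃ v ∈ E, IsC x y v) → 4 < E.card) → Solvable x y E := by
  intro N
  induction N with
  | zero => intro E hE; omega
  | succ N ih =>
    intro E hcard hE hb hbig
    by_cases hC : ∃ v ∈ E, IsC x y v
    swap
    · refine solvable_plain h _ E (Nat.lt_succ_self _) hE hb fun v hv hev => ?_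
      by_contra hn
      exact hC ⟨v, hv, ⟨hn⟩, hev⟩
    obtain ⟨p, hpE, tp, hep⟩ := hC
    set σ := y * x
    have inS : ∀ {u : α}, u ∈ E → (u ∈ E ∧ x u ∈ E ∧ pt σ 1 u ∈ E ∧ pt σ (-1) (x u) ∈ E) := fun {u} hu =>
      ⟨hu, (hE u hu).1, hE.pow_mem hu 1, hE.pow_mem (hE u hu).1 (-1)⟩
    set S₀ : Finset α := {p, x p}
    have hS₀ : ∀ s ∈ S₀, x s ∈ S₀ := by simp [S₀, h.x2]
    -- points outside the orbits of a set meeting that of `p`
    have noC : ∀ {S : Finset α}, p ∈ S → (∀ s ∈ S, x s ∈ S) →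
        (∀ v ∈ E, IsC x y v → v ∈ orb σ E S₀) →
        ∀ u ∈ E \ orb σ E S, Even (per σ u) → σ.SameCycle u (x u) := by
      intro S hp hxS hall u hu hev
      by_contra hn
      obtain ⟨huE, hu⟩ := Finset.mem_sdiff.1 hu
      obtain ⟨-, s, hs, e⟩ := mem_orb.1 (hall u huE ⟨⟨hn⟩, hev⟩)
      simp only [S₀, Finset.mem_insert, Finset.mem_singleton] at hs
      rcases hs with rfl | rfl
      · exact hu (mem_orb.2 ⟨huE, _, hp, e⟩)
      · exact hu (mem_orb.2 ⟨huE, _, hxS _ hp, e⟩)
    by_cases h2 : ∃ r ∈ E, IsC x y r ∧ r ∉ orb σ E S₀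
    · obtain ⟨r, hrE, ⟨tr, her⟩, hr⟩ := h2
      obtain ⟨d1, d2⟩ := outside h (show p ∈ S₀ by simp [S₀]) hS₀ hrE hr
      have m := move_twin_twin h tp tr hep her d1 d2
      set S₁ : Finset α := {p, pt σ 1 p, x p, pt σ (-1) (x p), r, x r}
      have hS₁E : S₁ ⊆ E := by
        obtain ⟨a1, a2, a3, a4⟩ := inS hpE
        obtain ⟨b1, b2, -, -⟩ := inS hrE
        simp [S₁, Finset.insert_subset_iff, a1, a2, a3, a4, b1, b2]
      have hS₁n : ∀ s ∈ S₁, Neutral x y s := by
        simp only [S₁, Finset.mem_insert, Finset.mem_singleton, forall_eq_or_imp, forall_eq]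
        exact ⟨Or.inl tp, Or.inl (tp.zpow h 1), Or.inl (tp.flip h), Or.inl ((tp.flip h).zpow h _), Or.inl tr, Or.inl (tr.flip h)⟩
      by_cases h3 : ∃ q ∈ E, IsC x y q ∧ q ∉ orb σ E S₁
      · obtain ⟨q, hqE, ⟨tq, heq⟩, hq⟩ := h3
        obtain ⟨d3, d4⟩ := outside h (show p ∈ S₁ by simp [S₁]) m.1 hqE hq
        obtain ⟨d5, d6⟩ := outside h (show r ∈ S₁ by simp [S₁]) m.1 hqE hq
        have m3 := move_three h tp tr tq hep her heq d1 d2 d3 d4 d5 d6
        set S₂ : Finset α := ({p, pt σ 1 p, x p, pt σ (-1) (x p), r, x r} : Finset α) ∪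
          {q, pt σ 1 q, x q, pt σ (-1) (x q), pt σ 1 r, pt σ (-1) (x r)}
        have hS₂E : S₂ ⊆ E := by
          obtain ⟨a1, a2, a3, a4⟩ := inS hpE
          obtain ⟨b1, b2, b3, b4⟩ := inS hrE
          obtain ⟨c1, c2, c3, c4⟩ := inS hqE
          simp [S₂, Finset.union_subset_iff, Finset.insert_subset_iff, a1, a2, a3, a4, b1, b2, b3, b4, c1, c2, c3, c4]
        by_cases h4 : ∃ u ∈ E, IsC x y u ∧ u ∉ orb σ E S₂
        · -- at least four pairs: two of them are removed
          obtain ⟨u, huE, ⟨tu, heu⟩, hu⟩ := h4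
          obtain ⟨e1, e2⟩ := outside h (show q ∈ S₂ by simp [S₂]) m3.1 huE hu
          refine m.remove h hE hS₁E (ih _ ?_ (inv_rest h hE m.1) (bal_neutral h hb hS₁n) fun _ => ?_)
          · have := card_rest_lt (x := x) (y := y) (show p ∈ S₁ by simp [S₁]) hpE
            omega
          · have mem : ∀ {v}, v ∈ E → v ∉ orb σ E S₁ → v ∈ E \ orb σ E S₁ :=
              fun hv hn => Finset.mem_sdiff.2 ⟨hv, hn⟩
            have hu1 : u ∉ orb σ E S₁ := fun e => hu (by
              obtain ⟨-, s, hs, e⟩ := mem_orb.1 e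
              exact mem_orb.2 ⟨huE, s, Finset.mem_union_left _ hs, e⟩)
            have hI := inv_rest h hE m.1
            have hqR := mem hqE hq
            have huR := mem huE hu1
            have hq2 : 2 ≤ per σ q := even_two heq
            have hsub : ({q, pt σ 1 q, x q, u, x u} : Finset α) ⊆ E \ orb σ E S₁ := by
              intro z hz
              simp only [Finset.mem_insert, Finset.mem_singleton] at hz
              rcases hz with rfl | rfl | rfl | rfl | rfl
              exacts [hqR, hI.pow_mem hqR 1, (hI _ hqR).1, huR, (hI _ huR).1]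
            have hc5 : ({q, pt σ 1 q, x q, u, x u} : Finset α).card = 5 := by
              have n1 : q ≠ pt σ 1 q := ne_same (i := 0) (v := q) (by norm_num) (by omega) (by omega)
              have n2 : q ≠ x q := ne_sc tq.ne 0 0
              have n3 : q ≠ u := ne_sc e1 0 0
              have n4 : q ≠ x u := ne_sc e2 0 0
              have n5 : pt σ 1 q ≠ x q := ne_sc tq.ne 1 0
              have n6 : pt σ 1 q ≠ u := ne_sc e1 1 0
              have n7 : pt σ 1 q ≠ x u := ne_sc e2 1 0
              have n8 : x q ≠ u := fun e => n4 (by rw [← e, h.x2])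
              have n9 : x q ≠ x u := fun e => n3 (x.injective e)
              have n10 : u ≠ x u := ne_sc tu.ne 0 0
              simp [n1, n2, n3, n4, n5, n6, n7, n8, n9, n10]
            have := Finset.card_le_card hsub
            rw [hc5] at this
            exact this
        · push Not at h4
          refine m3.remove h hE hS₂E (solvable_plain h _ _ (Nat.lt_succ_self _) (inv_rest h hE m3.1)
            (bal_neutral h hb ?_) fun u hu hev => ?_)
          · simp only [S₂, Finset.mem_union, Finset.mem_insert, Finset.mem_singleton, or_imp, forall_and, forall_eq]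
            exact ⟨⟨Or.inl tp, Or.inl (tp.zpow h 1), Or.inl (tp.flip h), Or.inl ((tp.flip h).zpow h _), Or.inl tr,
              Or.inl (tr.flip h)⟩, Or.inl tq, Or.inl (tq.zpow h 1), Or.inl (tq.flip h), Or.inl ((tq.flip h).zpow h _),
              Or.inl (tr.zpow h 1), Or.inl ((tr.flip h).zpow h _)⟩
          · by_contra hn
            exact (Finset.mem_sdiff.1 hu).2 (h4 u (Finset.mem_sdiff.1 hu).1 ⟨⟨hn⟩, hev⟩)
      · push Not at h3
        refine m.remove h hE hS₁E (solvable_plain h _ _ (Nat.lt_succ_self _) (inv_rest h hE m.1)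
          (bal_neutral h hb hS₁n) fun u hu hev => ?_)
        by_contra hn
        exact (Finset.mem_sdiff.1 hu).2 (h3 u (Finset.mem_sdiff.1 hu).1 ⟨⟨hn⟩, hev⟩)
    push Not at h2
    -- exactly one pair
    by_cases ha : ∃ w ∈ E, x w = w ∧ Odd (per σ w)
    · obtain ⟨w, hwE, hw, how⟩ := ha
      have m := move_twin_fixed h tp hep hw how
      refine m.remove h hE (by simp [Finset.insert_subset_iff, hpE, hwE, (hE p hpE).1])
        (solvable_plain h _ _ (Nat.lt_succ_self _) (inv_rest h hE m.1) (bal_neutral h hb ?_)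
          (noC (by simp) m.1 h2))
      simp only [Finset.mem_insert, Finset.mem_singleton, forall_eq_or_imp, forall_eq]
      exact ⟨Or.inl tp, Or.inl (tp.flip h), Or.inr how⟩
    push Not at ha
    by_cases hb' : ∃ c : ℤ, (c = 0 ∨ c = 1) ∧ (sol x y c E).Nonempty
    · obtain ⟨c, hc, hne⟩ := hb'
      obtain ⟨p', w, hpE', hwE, hp', hw, hep', hew⟩ := exists_pair_seeds hb hc hne
      have m := move_twin_pair h tp hep hp' hep' hw hew (pair_apart h hp' hw hep')
      refine m.remove h hE ?_ (solvable_plain h _ _ (Nat.lt_succ_self _) (inv_rest h hE m.1)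
        (bal_pair h hE hb (p := p') (w := w) (by simp) (by simp) hpE' hwE hp' hw hep' hew ?_)
          (noC (by simp) m.1 h2))
      · simp [Finset.union_subset_iff, Finset.insert_subset_iff, hpE, hwE, (hE p hpE).1, hpE', (hE p' hpE').1,
          hE.pow_mem hwE]
      · simp only [Finset.mem_union, Finset.mem_insert, Finset.mem_singleton, or_imp, forall_and, forall_eq]
        exact ⟨⟨Or.inl (Or.inl tp), Or.inl (Or.inl (tp.flip h)), Or.inr (Or.inr (Perm.SameCycle.refl _ _))⟩,
          Or.inr (Or.inl (Perm.SameCycle.refl _ _)), Or.inr (Or.inl ⟨-1, by rw [hp']; simp [σ]⟩),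
          Or.inr (Or.inr (Perm.sameCycle_zpow_left.2 (Perm.SameCycle.refl _ _)))⟩
    by_cases hd : ∃ r ∈ E, r ∉ orb σ E S₀
    · obtain ⟨r, hrE, hr⟩ := hd
      have hor : Odd (per σ r) := by
        rcases Nat.even_or_odd (per σ r) with hev | hod
        · exfalso
          by_cases hs : σ.SameCycle r (x r)
          · exact hb' (special_of_even h hE hrE hev hs)
          · exact hr (h2 r hrE ⟨⟨hs⟩, hev⟩)
        · exact hod
      have tr : Twin x y r := ⟨fun e => by
        obtain ⟨k, hk⟩ := e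
        obtain ⟨L, hL⟩ := hor
        -- a fixed point half way round
        obtain ⟨j, hj⟩ : ∃ j : ℤ, (per σ r : ℤ) ∣ k - 2 * j := by
          rcases Int.even_or_odd k with ⟨q, hq⟩ | ⟨q, hq⟩
          · exact ⟨q, 0, by rw [hq, hL]; ring⟩
          · exact ⟨q + L + 1, -1, by rw [hq, hL]; push_cast; ring⟩
        refine Nat.not_even_iff_odd.2 ⟨L, hL⟩ ?_
        have hfix : x (pt σ j r) = pt σ j r := by
          rw [x_pt h, pt, ← hk, ← Perm.mul_apply, ← zpow_add, pt, zpow_eq_iff]
          obtain ⟨q, hq⟩ := hj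
          exact ⟨-q, by linarith⟩
        have hne := ha _ (hE.pow_mem hrE j) hfix
        rw [pt, per_zpow] at hne
        exact Nat.not_odd_iff_even.1 hne⟩
      obtain ⟨d1, d2⟩ := outside h (show p ∈ S₀ by simp [S₀]) hS₀ hrE hr
      have m := move_twin_odd h tp tr hep hor d1 d2
      refine m.remove h hE ?_ (solvable_plain h _ _ (Nat.lt_succ_self _) (inv_rest h hE m.1)
        (bal_neutral h hb ?_) (noC (by simp) m.1 h2))
      · obtain ⟨a1, a2, a3, a4⟩ := inS hpE
        obtain ⟨b1, b2, -, -⟩ := inS hrE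
        simp only [σ] at a3 a4
        simp [Finset.insert_subset_iff, a1, a2, a3, a4, b1, b2]
      · simp only [Finset.mem_insert, Finset.mem_singleton, forall_eq_or_imp, forall_eq]
        exact ⟨Or.inl tp, Or.inl (tp.zpow h 1), Or.inl (tp.flip h), Or.inl ((tp.flip h).zpow h _), Or.inl tr,
          Or.inl (tr.flip h)⟩
    push Not at hd
    -- nothing but this pair
    have h4 : 4 ≤ per σ p := by
      by_contra hlt
      have hm := even_two hep
      have hper : per σ p = 2 := by obtain ⟨c, hc⟩ := hep; omega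
      have hsub : E ⊆ {p, pt σ 1 p, x p, pt σ 1 (x p)} := by
        intro v hv
        obtain ⟨-, s, hs, e⟩ := mem_orb.1 (hd v hv)
        obtain ⟨k, rfl⟩ := e.symm
        have hps : per σ s = 2 := by
          simp only [S₀, Finset.mem_insert, Finset.mem_singleton] at hs
          rcases hs with rfl | rfl
          exacts [hper, (h.per_x p).trans hper]
        have : (σ ^ k) s = s ∨ (σ ^ k) s = pt σ 1 s := by
          rcases Int.even_or_odd k with ⟨q, hq⟩ | ⟨q, hq⟩
          · exact Or.inl (zpow_fix.2 ⟨q, by rw [hq, hps]; ring⟩)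
          · exact Or.inr (zpow_eq_iff.2 ⟨-q, by rw [hq, hps]; ring⟩)
        simp only [S₀, Finset.mem_insert, Finset.mem_singleton] at hs ⊢
        rcases hs with rfl | rfl <;> rcases this with e' | e' <;> rw [e'] <;> simp
      have := (Finset.card_le_card hsub).trans Finset.card_le_four
      have := hbig ⟨p, hpE, tp, hep⟩
      omega
    have m := move_twin_long h tp hep h4
    refine m.remove h hE ?_ (solvable_plain h _ _ (Nat.lt_succ_self _) (inv_rest h hE m.1)
      (bal_neutral h hb ?_) (noC (by simp) m.1 h2))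
    · simp [Finset.insert_subset_iff, hpE, (hE p hpE).1, hE.pow_mem hpE, hE.pow_mem (hE p hpE).1]
    · simp only [Finset.mem_insert, Finset.mem_singleton, forall_eq_or_imp, forall_eq]
      exact ⟨Or.inl tp, Or.inl (tp.zpow h 1), Or.inl (tp.flip h), Or.inl ((tp.flip h).zpow h _),
        Or.inl ((tp.flip h).zpow h _), Or.inl (tp.zpow h 2)⟩

theorem bal_univ (h : Invols x y) (hc : IsConj x y) : Bal x y Finset.univ := by
  classical
  obtain ⟨g, hg⟩ := isConj_iff.1 hc
  set A : Finset α := {v | x v = v}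
  set B : Finset α := {v | x v = (y * x) v}
  have hA : ∀ v, v ∈ A ↔ x v = v := fun v => by simp [A]
  have hB : ∀ v, v ∈ B ↔ x v = (y * x) v := fun v =>
    Finset.mem_filter.trans (and_iff_right (Finset.mem_univ v))
  have hgx : ∀ v, y (g v) = g (x v) := fun v => by rw [← hg]; simp
  have hAB : A.card = B.card := by
    refine Finset.card_bij' (fun v _ => x (g v)) (fun v _ => g.symm (x v)) ?_ ?_ ?_ ?_
    · intro v hv
      refine (hB _).2 ?_
      rw [Perm.mul_apply, h.x2, hgx, (hA v).1 hv]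
    · intro v hv
      refine (hA _).2 (g.injective ?_)
      rw [← hgx, Equiv.apply_symm_apply]
      exact ((hB v).1 hv).symm
    · intro v _; simp [h.x2]
    · intro v _; simp [h.x2]
  set σ := y * x
  have hodd : ({v ∈ A | ¬ Even (per σ v)} : Finset α).card = ({v ∈ B | ¬ Even (per σ v)} : Finset α).card := by
    refine Finset.card_bij' (fun v _ => pt σ ((per σ v / 2 : ℕ) : ℤ) v)
      (fun v _ => pt σ (-((per σ v / 2 : ℕ) : ℤ)) v) ?_ ?_ ?_ ?_
    · intro v hv
      simp only [Finset.mem_filter, hA] at hv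
      obtain ⟨L, hL⟩ := Nat.not_even_iff_odd.1 hv.2
      simp only [Finset.mem_filter, hB]
      refine ⟨?_, by rw [pt, per_zpow]; exact hv.2⟩
      rw [x_pt h, hv.1, pt, pt, ← Perm.mul_apply, ← zpow_one_add]
      exact zpow_eq_iff.2 ⟨1, by rw [hL]; push_cast; omega⟩
    · intro v hv
      simp only [Finset.mem_filter, hB] at hv
      obtain ⟨L, hL⟩ := Nat.not_even_iff_odd.1 hv.2
      simp only [Finset.mem_filter, hA]
      refine ⟨?_, by rw [pt, per_zpow]; exact hv.2⟩
      rw [x_ptn h, hv.1, pt, pt, ← Perm.mul_apply, ← zpow_add_one]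
      exact zpow_eq_iff.2 ⟨-1, by rw [hL]; push_cast; omega⟩
    · intro v _
      simp only [pt, per_zpow]
      rw [← Perm.mul_apply, ← zpow_add]
      simp
    · intro v _
      simp only [pt, per_zpow]
      rw [← Perm.mul_apply, ← zpow_add]
      simp
  have e0 : sol x y 0 Finset.univ = ({v ∈ A | Even (per σ v)} : Finset α) := by
    ext v; simp [mem_sol, hA, σ]
  have e1 : sol x y 1 Finset.univ = ({v ∈ B | Even (per σ v)} : Finset α) := by
    ext v; simp [mem_sol, hB, σ]
  have s0 := Finset.card_filter_add_card_filter_not (s := A) (fun v => Even (per σ v))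
  have s1 := Finset.card_filter_add_card_filter_not (s := B) (fun v => Even (per σ v))
  unfold Bal
  rw [e0, e1]
  omega

/-- Two conjugate involutions have a common partner with which both products have odd order. -/
theorem exists_partner (h5 : 5 ≤ Fintype.card α) (h : Invols x y) (hc : IsConj x y) :
    ∃ z, IsConj x z ∧ Odd (orderOf (x * z)) ∧ Odd (orderOf (y * z)) := by
  obtain ⟨g, -, g3, gper⟩ := solvable_main h _ Finset.univ (Nat.lt_succ_self _) (fun v _ => by simp)
    (bal_univ h hc) fun _ => by rw [Finset.card_univ]; omega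
  refine ⟨g * x * g⁻¹, isConj_iff.2 ⟨g, rfl⟩, ?_, ?_⟩
  · rw [h.conj_eq, ← mul_assoc, h.x_mul, one_mul]
    exact odd_orderOf fun v => ⟨3, by decide, by
      rw [show chg x g ^ 3 = chg x g * chg x g * chg x g by rw [pow_succ, pow_two]]
      exact g3 v (Finset.mem_univ v)⟩
  · rw [h.conj_eq, ← mul_assoc]
    exact odd_orderOf fun v => gper v (Finset.mem_univ v)

end CfsgLib.Perm.OddProduct
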