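import Cfsg.Agent.Lib.Perm.OddProduct.Basic

/-!
# The elementary changes
-/

set_option autoImplicit false
set_option linter.unusedSectionVars false
set_option linter.unusedSimpArgs false

namespace CfsgLib.Perm.OddProduct

open Equiv

variable {α : Type*} [DecidableEq α] [Fintype α] {x y : Perm α}

/-- The orbits through a set. -/
def orb (σ : Perm α) (E S : Finset α) : Finset α := {v ∈ E | ∃ s ∈ S, σ.SameCycle v s}

theorem mem_orb {σ : Perm α} {E S : Finset α} {v : α} :
    v ∈ orb σ E S ↔ v ∈ E ∧ ∃ s ∈ S, σ.SameCycle v s := by simp [orb]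

theorem inv_orb (h : Invols x y) {E S : Finset α} (hE : Inv x y E) (hS : ∀ v ∈ S, x v ∈ S) :
    Inv x y (orb (y * x) E S) := by
  intro v hv
  obtain ⟨hvE, s, hs, e⟩ := mem_orb.1 hv
  refine ⟨mem_orb.2 ⟨(hE v hvE).1, x s, hS s hs, h.sc_x e⟩, mem_orb.2 ⟨(hE v hvE).2, s, hs, ?_⟩⟩
  exact Perm.sameCycle_apply_left.2 e

theorem inv_rest (h : Invols x y) {E S : Finset α} (hE : Inv x y E) (hS : ∀ v ∈ S, x v ∈ S) :
    Inv x y (E \ orb (y * x) E S) := by
  intro v hv
  obtain ⟨hvE, hn⟩ := Finset.mem_sdiff.1 hv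
  refine ⟨Finset.mem_sdiff.2 ⟨(hE v hvE).1, fun e => hn ?_⟩, Finset.mem_sdiff.2 ⟨(hE v hvE).2, fun e => hn ?_⟩⟩
  · obtain ⟨-, s, hs, e⟩ := mem_orb.1 e
    exact mem_orb.2 ⟨hvE, x s, hS s hs, by simpa [h.x2] using h.sc_x e⟩
  · obtain ⟨-, s, hs, e⟩ := mem_orb.1 e
    exact mem_orb.2 ⟨hvE, s, hs, Perm.sameCycle_apply_left.1 e⟩

/-- A set of points which can be resolved by a change supported on it. -/
def Move (x y : Perm α) (S : Finset α) : Prop :=
  (∀ v ∈ S, x v ∈ S) ∧ ∃ g : Perm α, (∀ v ∉ S, g v = v) ∧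
    (∀ v ∈ S, chg x g (chg x g (chg x g v)) = v) ∧ ∀ v ∈ S, OddPer (y * x * chg x g) v

theorem Move.remove (h : Invols x y) {E S : Finset α} (hE : Inv x y E) (hSE : S ⊆ E) (m : Move x y S)
    (hrest : Solvable x y (E \ orb (y * x) E S)) : Solvable x y E := by
  obtain ⟨hS, g, hg, h3, hper⟩ := m
  have hsub : S ⊆ orb (y * x) E S := fun s hs => mem_orb.2 ⟨hSE hs, s, hs, Perm.SameCycle.refl _ _⟩
  have := Solvable.union h Finset.disjoint_sdiff (inv_orb h hE hS) (inv_rest h hE hS)
    (gadget h hsub hS g hg h3 hper fun v hv => Or.inr (mem_orb.1 hv).2) hrest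
  rwa [Finset.union_sdiff_of_subset (show orb (y * x) E S ⊆ E from Finset.filter_subset _ _)] at this

/-! ### Values of the changes -/

theorem ne_sc {σ : Perm α} {u v : α} (huv : ¬ σ.SameCycle u v) (i j : ℤ) : pt σ i u ≠ pt σ j v :=
  fun e => huv (Perm.sameCycle_zpow_right.1 (Perm.sameCycle_zpow_left.1 (by
    show σ.SameCycle (pt σ i u) (pt σ j v)
    rw [e])))

theorem ne_same {σ : Perm α} {v : α} {i j : ℤ} (hne : i ≠ j) (h1 : i - j < per σ v) (h2 : j - i < per σ v) :
    pt σ i v ≠ pt σ j v := by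
  intro e
  obtain ⟨c, hc⟩ := zpow_eq_iff.1 e
  rcases lt_trichotomy c 0 with hc0 | hc0 | hc0
  · have : (per σ v : ℤ) * c ≤ (per σ v : ℤ) * (-1) := Int.mul_le_mul_of_nonneg_left (by omega) (by omega)
    omega
  · subst hc0; simp at hc; omega
  · have : (per σ v : ℤ) * 1 ≤ (per σ v : ℤ) * c := Int.mul_le_mul_of_nonneg_left (by omega) (by omega)
    omega

theorem three_vals (h : Invols x y) {p q w : α} (hq : x p = q) (hw : x w = w) (hqp : q ≠ p) (hwp : w ≠ p) :
    (∀ v ∈ ({p, q, w} : Finset α), x v ∈ ({p, q, w} : Finset α)) ∧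
    (∀ v ∉ ({p, q, w} : Finset α), swap p w v = v) ∧
    chg x (swap p w) p = q ∧ chg x (swap p w) q = w ∧ chg x (swap p w) w = p := by
  have hq' : x q = p := by rw [← hq, h.x2]
  have hwq : w ≠ q := fun e => hwp (by rw [← hw, e, hq'])
  refine ⟨by simp [hq, hw, hq'], fun v hv => ?_, ?_, ?_, ?_⟩
  · simp only [Finset.mem_insert, Finset.mem_singleton, not_or] at hv
    exact swap_apply_of_ne_of_ne hv.1 hv.2.2
  · have := chg_apply x (swap p w) w
    rwa [swap_apply_right, hw, swap_apply_right, hq] at this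
  · have := chg_apply x (swap p w) q
    rwa [swap_apply_of_ne_of_ne hqp hwq.symm, hq', swap_apply_left, hw] at this
  · have := chg_apply x (swap p w) p
    rwa [swap_apply_left, hq, swap_apply_of_ne_of_ne hqp hwq.symm, hq'] at this

/-- Six distinct points in three pairs of `x`. -/
structure Hexad (x : Perm α) (p p' a a' r s : α) : Prop where
  xp : x p = a
  xp' : x p' = a'
  xr : x r = s
  xa : x a = p
  xa' : x a' = p'
  xs : x s = r
  nd : [p, p', a, a', r, s].Nodup

theorem hexad_vals {p p' a a' r s : α} (H : Hexad x p p' a a' r s) :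
    let S : Finset α := {p, p', a, a', r, s}
    (∀ v ∈ S, x v ∈ S) ∧
    ((∀ v ∉ S, (swap a' s * swap a a') v = v) ∧
      chg x (swap a' s * swap a a') p = r ∧ chg x (swap a' s * swap a a') r = p' ∧
      chg x (swap a' s * swap a a') p' = p ∧ chg x (swap a' s * swap a a') a = a' ∧
      chg x (swap a' s * swap a a') a' = s ∧ chg x (swap a' s * swap a a') s = a) ∧
    ((∀ v ∉ S, (swap a r * swap r p') v = v) ∧
      chg x (swap a r * swap r p') p = s ∧ chg x (swap a r * swap r p') s = a' ∧
      chg x (swap a r * swap r p') a' = p ∧ chg x (swap a r * swap r p') a = p' ∧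
      chg x (swap a r * swap r p') p' = r ∧ chg x (swap a r * swap r p') r = a) := by
  intro S
  obtain ⟨xp, xp', xr, xa, xa', xs, nd⟩ := H
  simp only [List.nodup_cons, List.mem_cons, List.not_mem_nil, or_false, not_or, List.nodup_nil, and_true,
    not_false_eq_true] at nd
  obtain ⟨⟨n12, n13, n14, n15, n16⟩, ⟨n23, n24, n25, n26⟩, ⟨n34, n35, n36⟩, ⟨n45, n46⟩, n56⟩ := nd
  refine ⟨by simp [S, xp, xp', xr, xa, xa', xs], ⟨fun v hv => ?_, ?_⟩, ⟨fun v hv => ?_, ?_⟩⟩
  · simp only [S, Finset.mem_insert, Finset.mem_singleton, not_or] at hv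
    simp [Perm.mul_apply, swap_apply_of_ne_of_ne, hv]
  · set g := swap a' s * swap a a'
    have k1 : g p = p := by simp [g, Perm.mul_apply, swap_apply_of_ne_of_ne, n13, n14, n16]
    have k2 : g p' = p' := by simp [g, Perm.mul_apply, swap_apply_of_ne_of_ne, n23, n24, n26]
    have k3 : g r = r := by simp [g, Perm.mul_apply, swap_apply_of_ne_of_ne, (Ne.symm n35), (Ne.symm n45), n56]
    have k4 : g a = s := by simp [g, Perm.mul_apply]
    have k5 : g a' = a := by simp [g, Perm.mul_apply, swap_apply_of_ne_of_ne, n34, n36]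
    have k6 : g s = a' := by simp [g, Perm.mul_apply, swap_apply_of_ne_of_ne, (Ne.symm n36), (Ne.symm n46)]
    have e := chg_apply x g
    refine ⟨?_, ?_, ?_, ?_, ?_, ?_⟩
    · have := e p; rwa [k1, xp, k4, xs] at this
    · have := e r; rwa [k3, xr, k6, xa'] at this
    · have := e p'; rwa [k2, xp', k5, xa] at this
    · have := e a'; rwa [k5, xa', k2, xp'] at this
    · have := e s; rwa [k6, xs, k3, xr] at this
    · have := e a; rwa [k4, xa, k1, xp] at this
  · simp only [S, Finset.mem_insert, Finset.mem_singleton, not_or] at hv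
    simp [Perm.mul_apply, swap_apply_of_ne_of_ne, hv]
  · set g := swap a r * swap r p'
    have k1 : g p = p := by simp [g, Perm.mul_apply, swap_apply_of_ne_of_ne, n13, n12, n15]
    have k2 : g p' = a := by simp [g, Perm.mul_apply]
    have k3 : g r = p' := by simp [g, Perm.mul_apply, swap_apply_of_ne_of_ne, n23, n25]
    have k4 : g a = r := by simp [g, Perm.mul_apply, swap_apply_of_ne_of_ne, n35, (Ne.symm n23)]
    have k5 : g a' = a' := by simp [g, Perm.mul_apply, swap_apply_of_ne_of_ne, (Ne.symm n34), n45, (Ne.symm n24)]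
    have k6 : g s = s := by simp [g, Perm.mul_apply, swap_apply_of_ne_of_ne, (Ne.symm n36), (Ne.symm n56), (Ne.symm n26)]
    have e := chg_apply x g
    refine ⟨?_, ?_, ?_, ?_, ?_, ?_⟩
    · have := e p; rwa [k1, xp, k4, xr] at this
    · have := e s; rwa [k6, xs, k3, xp'] at this
    · have := e a'; rwa [k5, xa', k2, xa] at this
    · have := e p'; rwa [k2, xp', k5, xa'] at this
    · have := e r; rwa [k3, xr, k6, xs] at this
    · have := e a; rwa [k4, xa, k1, xp] at this

/-- `p` is on one of two cycles exchanged by `x`. -/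
structure Twin (x y : Perm α) (p : α) : Prop where
  ne : ¬ (y * x).SameCycle p (x p)

theorem x_pt (h : Invols x y) (i : ℤ) (v : α) : x (pt (y * x) i v) = pt (y * x) (-i) (x v) := h.x_zpow i v

theorem Twin.symm (h : Invols x y) {p : α} (t : Twin x y p) : ¬ (y * x).SameCycle (x p) p :=
  fun e => t.ne e.symm

theorem not_sc_x (h : Invols x y) {u v : α} (e : ¬ (y * x).SameCycle u v) : ¬ (y * x).SameCycle (x u) (x v) :=
  fun e' => e (by simpa [h.x2] using h.sc_x e')

theorem even_two {σ : Perm α} {v : α} (he : Even (per σ v)) : 2 ≤ per σ v := by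
  have := per_pos σ v
  obtain ⟨k, hk⟩ := he
  omega

/-- A cycle with two fixed points of `y` and one with two fixed points of `x`. -/
theorem move_pair (h : Invols x y) {p w : α} (hp : x p = (y * x) p) (hw : x w = w)
    (hep : Even (per (y * x) p)) (hew : Even (per (y * x) w)) (hpw : ¬ (y * x).SameCycle p w) :
    Move x y {p, x p, w} := by
  set σ := y * x
  set L := per σ p
  have hL := even_two hep
  have hq : x p = pt σ 1 p := by rw [hp]; simp [pt]
  have hqp : x p ≠ p := by
    rw [hq]; exact ne_same (v := p) (j := 0) (by norm_num) (by omega) (by omega)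
  obtain ⟨hS, hg, v1, v2, v3⟩ := three_vals h rfl hw hqp fun e => hpw (by rw [e])
  refine ⟨hS, swap p w, hg, by simp [v1, v2, v3], ?_⟩
  have hout := fun v hv => h.chg_out hS hg (v := v) hv
  have hwp : ¬ σ.SameCycle w p := fun e => hpw e.symm
  have s1 : St (σ * chg x (swap p w)) p (L - 1) (pt σ 0 p) := seg_pt hout (v := p) (i := 1) (v1.trans hq) _
    (by omega) (Or.inr (by omega)) (by
      simp only [Finset.mem_insert, Finset.mem_singleton, forall_eq_or_imp, forall_eq, hq]
      exact ⟨avoid_same (j := 0) (Or.inl ⟨by omega, by omega⟩), avoid_same (Or.inl ⟨le_rfl, by omega⟩),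
        avoid_other (j := 0) hpw⟩)
  have s2 : St (σ * chg x (swap p w)) (x p) (per σ w) (pt σ 0 w) := seg_pt hout (v := w) (i := 0) v2 _
    (per_pos _ _) (Or.inr (by omega)) (by
      simp only [Finset.mem_insert, Finset.mem_singleton, forall_eq_or_imp, forall_eq, hq]
      exact ⟨avoid_other (j := 0) hwp, avoid_other hwp, avoid_same (j := 0) (Or.inl ⟨le_rfl, by omega⟩)⟩)
  have s3 : St (σ * chg x (swap p w)) w 1 (x p) := by
    rw [hq]
    exact seg_pt hout (v := p) (i := 0) v3 1 one_pos (Or.inl (by omega)) (by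
      simp only [Finset.mem_insert, Finset.mem_singleton, forall_eq_or_imp, forall_eq, hq]
      exact ⟨avoid_same (j := 0) (Or.inl ⟨le_rfl, by omega⟩), avoid_same (Or.inr ⟨by omega, by omega⟩),
        avoid_other (j := 0) hpw⟩)
  simp only [pt_zero] at s1 s2
  have o : OddPer (σ * chg x (swap p w)) (x p) := (s2.trans s3).oddPer (hew.add_one)
  simp only [Finset.mem_insert, Finset.mem_singleton, forall_eq_or_imp, forall_eq]
  exact ⟨s1.oddPer (Nat.Even.sub_odd (by omega) hep odd_one), o, s3.spread o⟩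

/-- Two twin cycles absorbed by a fixed point on a cycle of odd length. -/
theorem move_twin_fixed (h : Invols x y) {p w : α} (t : Twin x y p) (hep : Even (per (y * x) p)) (hw : x w = w)
    (how : Odd (per (y * x) w)) : Move x y {p, x p, w} := by
  set σ := y * x
  set a := x p
  set m := per σ p
  have hma : per σ a = m := h.per_x p
  have hpw : ¬ σ.SameCycle p w := fun e => by
    have := per_sameCycle e
    exact (Nat.not_even_iff_odd.2 how) (this ▸ hep)
  have haw : ¬ σ.SameCycle a w := fun e => hpw (by simpa [a, hw, h.x2] using h.sc_x e)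
  have hap : a ≠ p := fun e => t.ne (by rw [show x p = p from e])
  obtain ⟨hS, hg, v1, v2, v3⟩ := three_vals h rfl hw hap fun e => hpw (by rw [e])
  refine ⟨hS, swap p w, hg, by simp [v1, v2, v3, a], ?_⟩
  have hout := fun v hv => h.chg_out hS hg (v := v) hv
  have av : ∀ {b : α} {l : ℕ}, l ≤ per σ b →
      (b = p ∨ b = a ∨ b = w) → ∀ s ∈ ({p, a, w} : Finset α), Avoid σ (pt σ 0 b) l s := by
    intro b l hl hb s hs
    simp only [Finset.mem_insert, Finset.mem_singleton] at hs
    have same : Avoid σ (pt σ 0 b) l (pt σ 0 b) := avoid_same (Or.inl ⟨le_rfl, by omega⟩)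
    have npa : ¬ σ.SameCycle a p := t.symm h
    rcases hb with rfl | rfl | rfl <;> rcases hs with rfl | rfl | rfl <;>
      first
      | exact same
      | exact avoid_other (j := 0) t.ne
      | exact avoid_other (j := 0) hpw
      | exact avoid_other (j := 0) npa
      | exact avoid_other (j := 0) haw
      | exact avoid_other (j := 0) fun e => hpw e.symm
      | exact avoid_other (j := 0) fun e => haw e.symm
  have s1 : St (σ * chg x (swap p w)) p (per σ a) (pt σ 0 a) :=
    seg_pt hout v1 _ (per_pos _ _) (Or.inr (by omega)) (av le_rfl (Or.inr (Or.inl rfl)))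
  have s2 : St (σ * chg x (swap p w)) a (per σ w) (pt σ 0 w) :=
    seg_pt hout v2 _ (per_pos _ _) (Or.inr (by omega)) (av le_rfl (Or.inr (Or.inr rfl)))
  have s3 : St (σ * chg x (swap p w)) w m (pt σ 0 p) :=
    seg_pt hout v3 _ (per_pos _ _) (Or.inr (by omega)) (av le_rfl (Or.inl rfl))
  simp only [pt_zero] at s1 s2 s3
  have o : OddPer (σ * chg x (swap p w)) p := ((s1.trans s2).trans s3).oddPer (by
    rw [hma, Nat.add_assoc, Nat.add_comm (per σ w), ← Nat.add_assoc]
    exact (hep.add hep).add_odd how)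
  simp only [Finset.mem_insert, Finset.mem_singleton, forall_eq_or_imp, forall_eq]
  exact ⟨o, s2.spread (s3.spread o), s3.spread o⟩

/-- Two twin cycles absorbed by a pair of cycles with fixed points. -/
theorem move_twin_pair (h : Invols x y) {p p' w : α} (t : Twin x y p) (hep : Even (per (y * x) p))
    (hp' : x p' = (y * x) p') (hep' : Even (per (y * x) p')) (hw : x w = w) (hew : Even (per (y * x) w))
    (hpw' : ¬ (y * x).SameCycle p' w) :
    Move x y ({p, x p, w} ∪ {p', x p', pt (y * x) ((per (y * x) w / 2 : ℕ) : ℤ) w}) := by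
  set σ := y * x
  set a := x p
  set m := per σ p
  set L := per σ w
  set k := per σ p'
  set n := L / 2 with hn
  have hnn : n + n = L := by obtain ⟨c, hc⟩ := hew; omega
  have hL := even_two hew
  have hk := even_two hep'
  have hm := even_two hep
  have hma : per σ a = m := h.per_x p
  have hq' : x p' = pt σ 1 p' := by rw [hp']; simp [pt]
  set w' := pt σ (n : ℤ) w with hw'def
  have hw' : x w' = w' := by
    rw [hw'def, x_pt h, hw]
    have e2 : (n : ℤ) + n = per (y * x) w := by exact_mod_cast hnn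
    exact zpow_eq_iff.2 ⟨1, by omega⟩
  have n1 : ¬ σ.SameCycle p p' := fun e => t.ne (e.trans (by
    have : σ.SameCycle p' (x p') := ⟨1, by rw [zpow_one, hp']⟩
    exact this.trans (h.sc_x e).symm))
  have n2 : ¬ σ.SameCycle p w := fun e => t.ne (e.trans (by simpa [hw] using (h.sc_x e).symm))
  have n3 : ¬ σ.SameCycle a p' := fun e => n1 (by
    have : σ.SameCycle (x p') p' := ⟨-1, by rw [hp']; simp⟩
    have := (h.sc_x e).trans this
    simpa [a, h.x2] using this)
  have n4 : ¬ σ.SameCycle a w := fun e => n2 (by simpa [a, hw, h.x2] using h.sc_x e)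
  have na := t.symm h
  have hap : a ≠ p := fun e => t.ne (by rw [show x p = p from e])
  have hqp : x p' ≠ p' := by
    rw [hq']; exact ne_same (v := p') (j := 0) (by norm_num) (by omega) (by omega)
  obtain ⟨hS, hg, v1, v2, v3⟩ := three_vals h rfl hw hap fun e => n2 (by rw [e])
  obtain ⟨hS', hg', v4, v5, v6⟩ := three_vals h rfl hw' hqp fun e => hpw' (by
    have : σ.SameCycle w p' := e ▸ ⟨n, rfl⟩
    exact this.symm)
  have hd : Disjoint ({p, a, w} : Finset α) {p', x p', w'} := by
    rw [Finset.disjoint_left]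
    simp only [Finset.mem_insert, Finset.mem_singleton, not_or, hq', forall_eq_or_imp, forall_eq]
    exact ⟨⟨ne_sc n1 0 0, ne_sc n1 0 1, ne_sc n2 0 n⟩, ⟨ne_sc n3 0 0, ne_sc n3 0 1, ne_sc n4 0 n⟩,
      ne_sc (fun e => hpw' e.symm) 0 0, ne_sc (fun e => hpw' e.symm) 0 1,
      ne_same (v := w) (i := 0) (by omega) (by omega) (by omega)⟩
  set g := swap p w * swap p' w'
  have hm' := h.chg_mul hd hS hg hS' hg'
  have hmem : ∀ v ∈ ({p, a, w} : Finset α) ∪ {p', x p', w'}, x v ∈ ({p, a, w} : Finset α) ∪ {p', x p', w'} := by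
    intro v hv
    rcases Finset.mem_union.1 hv with hv | hv
    · exact Finset.mem_union_left _ (hS v hv)
    · exact Finset.mem_union_right _ (hS' v hv)
  have hgs : ∀ v ∉ ({p, a, w} : Finset α) ∪ {p', x p', w'}, g v = v := fun v hv => by
    simp only [Finset.mem_union, not_or] at hv
    show swap p w (swap p' w' v) = v
    rw [hg' v hv.2, hg v hv.1]
  have u1 := ((hm' p).1 (by simp)).trans v1
  have u2 := ((hm' a).1 (by simp)).trans v2
  have u3 := ((hm' w).1 (by simp)).trans v3
  have u4 := ((hm' p').2.1 (by simp)).trans v4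
  have u5 := ((hm' (x p')).2.1 (by simp)).trans v5
  have u6 := ((hm' w').2.1 (by simp)).trans v6
  refine ⟨hmem, g, hgs, by simp [g, a, u1, u2, u3, u4, u5, u6], ?_⟩
  have hout := fun v hv => h.chg_out hmem hgs (v := v) hv
  have npw : ¬ σ.SameCycle w p := fun e => n2 e.symm
  have npa : ¬ σ.SameCycle w a := fun e => n4 e.symm
  have npw' : ¬ σ.SameCycle w p' := fun e => hpw' e.symm
  have np : ¬ σ.SameCycle p' p := fun e => n1 e.symm
  have npp : ¬ σ.SameCycle p' a := fun e => n3 e.symm
  have s1 : St (σ * chg x g) p m (pt σ 0 a) := seg_pt hout (v := a) (i := 0) u1 _ (by omega) (Or.inr (by omega)) (by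
    simp only [Finset.mem_union, Finset.mem_insert, Finset.mem_singleton, or_imp, forall_and, forall_eq, hq']
    exact ⟨⟨avoid_other (j := 0) na, avoid_same (j := 0) (Or.inl ⟨le_rfl, by omega⟩), avoid_other (j := 0) n4⟩,
      avoid_other (j := 0) n3, avoid_other n3, avoid_other n4⟩)
  have s2 : St (σ * chg x g) a n w' := seg_pt hout (v := w) (i := 0) u2 _ (by omega) (Or.inl (by omega)) (by
    simp only [Finset.mem_union, Finset.mem_insert, Finset.mem_singleton, or_imp, forall_and, forall_eq, hq']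
    exact ⟨⟨avoid_other (j := 0) npw, avoid_other (j := 0) npa, avoid_same (j := 0) (Or.inl ⟨le_rfl, by omega⟩)⟩,
      avoid_other (j := 0) npw', avoid_other npw', avoid_same (Or.inr ⟨by omega, by omega⟩)⟩)
  have s3 : St (σ * chg x g) w' 1 (x p') := by
    rw [hq']
    exact seg_pt hout (v := p') (i := 0) u6 1 one_pos (Or.inl (by omega)) (by
      simp only [Finset.mem_union, Finset.mem_insert, Finset.mem_singleton, or_imp, forall_and, forall_eq, hq']
      exact ⟨⟨avoid_other (j := 0) np, avoid_other (j := 0) npp, avoid_other (j := 0) hpw'⟩,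
        avoid_same (j := 0) (Or.inl ⟨le_rfl, by omega⟩), avoid_same (Or.inr ⟨by omega, by omega⟩),
        avoid_other hpw'⟩)
  have s4 : St (σ * chg x g) (x p') n (pt σ 0 w) := seg_pt hout (v := w) (i := n) u5 _ (by omega)
    (Or.inr (by omega)) (by
    simp only [Finset.mem_union, Finset.mem_insert, Finset.mem_singleton, or_imp, forall_and, forall_eq, hq']
    exact ⟨⟨avoid_other (j := 0) npw, avoid_other (j := 0) npa, avoid_same (j := 0) (Or.inl ⟨by omega, by omega⟩)⟩,
      avoid_other (j := 0) npw', avoid_other npw', avoid_same (Or.inl ⟨le_rfl, by omega⟩)⟩)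
  have s5 : St (σ * chg x g) w m (pt σ 0 p) := seg_pt hout (v := p) (i := 0) u3 _ (by omega) (Or.inr (by omega)) (by
    simp only [Finset.mem_union, Finset.mem_insert, Finset.mem_singleton, or_imp, forall_and, forall_eq, hq']
    exact ⟨⟨avoid_same (j := 0) (Or.inl ⟨le_rfl, by omega⟩), avoid_other (j := 0) t.ne, avoid_other (j := 0) n2⟩,
      avoid_other (j := 0) n1, avoid_other n1, avoid_other n2⟩)
  have s6 : St (σ * chg x g) p' (k - 1) (pt σ 0 p') := seg_pt hout (v := p') (i := 1) (u4.trans hq') _ (by omega)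
    (Or.inr (by omega)) (by
    simp only [Finset.mem_union, Finset.mem_insert, Finset.mem_singleton, or_imp, forall_and, forall_eq, hq']
    exact ⟨⟨avoid_other (j := 0) np, avoid_other (j := 0) npp, avoid_other (j := 0) hpw'⟩,
      avoid_same (j := 0) (Or.inl ⟨by omega, by omega⟩), avoid_same (Or.inl ⟨le_rfl, by omega⟩),
      avoid_other hpw'⟩)
  simp only [pt_zero] at s1 s4 s5 s6
  have o : OddPer (σ * chg x g) p := ((((s1.trans s2).trans s3).trans s4).trans s5).oddPer (by
    obtain ⟨c, hc⟩ := hep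
    exact ⟨c + c + n, by omega⟩)
  simp only [Finset.mem_union, Finset.mem_insert, Finset.mem_singleton, or_imp, forall_and, forall_eq]
  exact ⟨⟨o, s2.spread (s3.spread (s4.spread (s5.spread o))), s5.spread o⟩,
    s6.oddPer (Nat.Even.sub_odd (by omega) hep' odd_one), s4.spread (s5.spread o), s3.spread (s4.spread (s5.spread o))⟩

end CfsgLib.Perm.OddProduct
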