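import Cfsg.Agent.Lib.Perm.OddProduct.Moves

/-!
# Changes resolving twin cycles
-/

set_option autoImplicit false
set_option linter.unusedSectionVars false
set_option linter.unusedSimpArgs false

namespace CfsgLib.Perm.OddProduct

open Equiv

variable {α : Type*} [DecidableEq α] [Fintype α] {x y : Perm α}

theorem x_pt0 (h : Invols x y) (v : α) : x (pt (y * x) 0 v) = pt (y * x) 0 (x v) := by simpa using x_pt h 0 v

theorem x_pt1 (h : Invols x y) (v : α) : x (pt (y * x) 1 v) = pt (y * x) (-1) (x v) := x_pt h 1 v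

theorem x_ptn (h : Invols x y) (i : ℤ) (v : α) : x (pt (y * x) (-i) v) = pt (y * x) i (x v) := by
  simpa using x_pt h (-i) v

/-- Four orbits apart from each other. -/
theorem apart_four (h : Invols x y) {p r : α} (t : Twin x y p) (t' : Twin x y r)
    (h1 : ¬ (y * x).SameCycle p r) (h2 : ¬ (y * x).SameCycle p (x r)) :
    (¬ (y * x).SameCycle (x p) r ∧ ¬ (y * x).SameCycle (x p) (x r)) ∧
    (¬ (y * x).SameCycle r p ∧ ¬ (y * x).SameCycle r (x p) ∧ ¬ (y * x).SameCycle (x r) p ∧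
      ¬ (y * x).SameCycle (x r) (x p)) ∧
    (¬ (y * x).SameCycle (x p) p ∧ ¬ (y * x).SameCycle (x r) r) := by
  have a1 : ¬ (y * x).SameCycle (x p) r := fun e => h2 (by simpa [h.x2] using h.sc_x e)
  have a2 := not_sc_x h h1
  exact ⟨⟨a1, a2⟩, ⟨fun e => h1 e.symm, fun e => a1 e.symm, fun e => h2 e.symm, fun e => a2 e.symm⟩,
    t.symm h, t'.symm h⟩

/-- Two twin pairs. -/
theorem move_twin_twin (h : Invols x y) {p r : α} (t : Twin x y p) (t' : Twin x y r)
    (hep : Even (per (y * x) p)) (her : Even (per (y * x) r))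
    (h1 : ¬ (y * x).SameCycle p r) (h2 : ¬ (y * x).SameCycle p (x r)) :
    Move x y {p, pt (y * x) 1 p, x p, pt (y * x) (-1) (x p), r, x r} := by
  set σ := y * x
  set a := x p
  set s := x r
  set m := per σ p
  set m' := per σ r
  have hma : per σ a = m := h.per_x p
  have hms : per σ s = m' := h.per_x r
  have hm := even_two hep
  have hm' := even_two her
  obtain ⟨⟨a1, a2⟩, ⟨b1, b2, b3, b4⟩, c1, c2⟩ := apart_four h t t' h1 h2
  have H : Hexad x (pt σ 0 p) (pt σ 1 p) (pt σ 0 a) (pt σ (-1) a) (pt σ 0 r) (pt σ 0 s) := by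
    refine ⟨x_pt0 h p, x_pt1 h p, x_pt0 h r, ?_, ?_, ?_, ?_⟩
    · rw [x_pt0 h, h.x2]
    · rw [x_ptn h, h.x2]
    · rw [x_pt0 h, h.x2]
    · simp only [List.nodup_cons, List.mem_cons, List.not_mem_nil, or_false, not_or, List.nodup_nil, and_true,
        not_false_eq_true]
      exact ⟨⟨ne_same (by norm_num) (by omega) (by omega), ne_sc t.ne _ _, ne_sc t.ne _ _, ne_sc h1 _ _, ne_sc h2 _ _⟩,
        ⟨ne_sc t.ne _ _, ne_sc t.ne _ _, ne_sc h1 _ _, ne_sc h2 _ _⟩,
        ⟨ne_same (by norm_num) (by omega) (by omega), ne_sc a1 _ _, ne_sc a2 _ _⟩,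
        ⟨ne_sc a1 _ _, ne_sc a2 _ _⟩, ne_sc t'.ne _ _⟩
  obtain ⟨hS, ⟨hg, v1, v2, v3, v4, v5, v6⟩, -⟩ := hexad_vals H
  simp only [pt_zero] at hS hg v1 v2 v3 v4 v5 v6
  refine ⟨hS, swap (pt σ (-1) a) s * swap a (pt σ (-1) a), hg, by simp [a, s, v1, v2, v3, v4, v5, v6], ?_⟩
  set g := swap (pt σ (-1) a) s * swap a (pt σ (-1) a)
  have hout := fun v hv => h.chg_out hS hg (v := v) hv
  have s1 : St (σ * chg x g) p m' (pt σ 0 r) := seg_pt hout (v := r) (i := 0) v1 _ (by omega) (Or.inr (by omega)) (by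
    simp only [Finset.mem_insert, Finset.mem_singleton, forall_eq_or_imp, forall_eq]
    exact ⟨avoid_other (j := 0) b1, avoid_other b1, avoid_other (j := 0) b2, avoid_other b2,
      avoid_same (j := 0) (Or.inl ⟨le_rfl, by omega⟩), avoid_other (j := 0) t'.ne⟩)
  have s2 : St (σ * chg x g) r (m - 1) (pt σ 0 p) := seg_pt hout (v := p) (i := 1) v2 _ (by omega) (Or.inr (by omega)) (by
    simp only [Finset.mem_insert, Finset.mem_singleton, forall_eq_or_imp, forall_eq]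
    exact ⟨avoid_same (j := 0) (Or.inl ⟨by omega, by omega⟩), avoid_same (Or.inl ⟨le_rfl, by omega⟩),
      avoid_other (j := 0) t.ne, avoid_other t.ne, avoid_other (j := 0) h1, avoid_other (j := 0) h2⟩)
  have s3 : St (σ * chg x g) (pt σ 1 p) 1 (pt σ 1 p) := seg_pt hout (v := p) (i := 0) v3 1 one_pos (Or.inl (by omega)) (by
    simp only [Finset.mem_insert, Finset.mem_singleton, forall_eq_or_imp, forall_eq]
    exact ⟨avoid_same (j := 0) (Or.inl ⟨le_rfl, by omega⟩), avoid_same (Or.inr ⟨by omega, by omega⟩),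
      avoid_other (j := 0) t.ne, avoid_other t.ne, avoid_other (j := 0) h1, avoid_other (j := 0) h2⟩)
  have s4 : St (σ * chg x g) a 1 (pt σ 0 a) := seg_pt hout (v := a) (i := -1) v4 1 one_pos (Or.inl (by omega)) (by
    simp only [Finset.mem_insert, Finset.mem_singleton, forall_eq_or_imp, forall_eq]
    exact ⟨avoid_other (j := 0) c1, avoid_other c1, avoid_same (j := 0) (Or.inr ⟨by omega, by omega⟩),
      avoid_same (Or.inl ⟨le_rfl, by omega⟩), avoid_other (j := 0) a1, avoid_other (j := 0) a2⟩)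
  have s5 : St (σ * chg x g) (pt σ (-1) a) m' (pt σ 0 s) := seg_pt hout (v := s) (i := 0) v5 _ (by omega)
    (Or.inr (by omega)) (by
    simp only [Finset.mem_insert, Finset.mem_singleton, forall_eq_or_imp, forall_eq]
    exact ⟨avoid_other (j := 0) b3, avoid_other b3, avoid_other (j := 0) b4, avoid_other b4,
      avoid_other (j := 0) c2, avoid_same (j := 0) (Or.inl ⟨le_rfl, by omega⟩)⟩)
  have s6 : St (σ * chg x g) s (m - 1) (pt σ (-1) a) := seg_pt hout (v := a) (i := 0) v6 _ (by omega)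
    (Or.inr (by omega)) (by
    simp only [Finset.mem_insert, Finset.mem_singleton, forall_eq_or_imp, forall_eq]
    exact ⟨avoid_other (j := 0) c1, avoid_other c1, avoid_same (j := 0) (Or.inl ⟨le_rfl, by omega⟩),
      avoid_same (Or.inl ⟨by omega, by omega⟩), avoid_other (j := 0) a1, avoid_other (j := 0) a2⟩)
  simp only [pt_zero] at s1 s2 s4 s5
  have hodd : Odd (m' + (m - 1)) := by
    obtain ⟨c, hc⟩ := hep; obtain ⟨d, hd⟩ := her
    exact ⟨c + d - 1, by omega⟩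
  have o1 : OddPer (σ * chg x g) p := (s1.trans s2).oddPer hodd
  have o2 : OddPer (σ * chg x g) (pt σ (-1) a) := (s5.trans s6).oddPer hodd
  simp only [Finset.mem_insert, Finset.mem_singleton, forall_eq_or_imp, forall_eq]
  exact ⟨o1, s3.oddPer odd_one, s4.oddPer odd_one, o2, s2.spread o1, s6.spread o2⟩

/-- A twin pair and a twin pair of cycles of odd length. -/
theorem move_twin_odd (h : Invols x y) {p r : α} (t : Twin x y p) (t' : Twin x y r)
    (hep : Even (per (y * x) p)) (hor : Odd (per (y * x) r))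
    (h1 : ¬ (y * x).SameCycle p r) (h2 : ¬ (y * x).SameCycle p (x r)) :
    Move x y {p, pt (y * x) 1 p, x p, pt (y * x) (-1) (x p), r, x r} := by
  set σ := y * x
  set a := x p
  set s := x r
  set m := per σ p
  set m' := per σ r
  have hma : per σ a = m := h.per_x p
  have hms : per σ s = m' := h.per_x r
  have hm := even_two hep
  have hm' := per_pos σ r
  obtain ⟨⟨a1, a2⟩, ⟨b1, b2, b3, b4⟩, c1, c2⟩ := apart_four h t t' h1 h2
  have H : Hexad x (pt σ 0 p) (pt σ 1 p) (pt σ 0 a) (pt σ (-1) a) (pt σ 0 r) (pt σ 0 s) := by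
    refine ⟨x_pt0 h p, x_pt1 h p, x_pt0 h r, ?_, ?_, ?_, ?_⟩
    · rw [x_pt0 h, h.x2]
    · rw [x_ptn h, h.x2]
    · rw [x_pt0 h, h.x2]
    · simp only [List.nodup_cons, List.mem_cons, List.not_mem_nil, or_false, not_or, List.nodup_nil, and_true,
        not_false_eq_true]
      exact ⟨⟨ne_same (by norm_num) (by omega) (by omega), ne_sc t.ne _ _, ne_sc t.ne _ _, ne_sc h1 _ _, ne_sc h2 _ _⟩,
        ⟨ne_sc t.ne _ _, ne_sc t.ne _ _, ne_sc h1 _ _, ne_sc h2 _ _⟩,
        ⟨ne_same (by norm_num) (by omega) (by omega), ne_sc a1 _ _, ne_sc a2 _ _⟩,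
        ⟨ne_sc a1 _ _, ne_sc a2 _ _⟩, ne_sc t'.ne _ _⟩
  obtain ⟨hS, -, hg, v1, v2, v3, v4, v5, v6⟩ := hexad_vals H
  simp only [pt_zero] at hS hg v1 v2 v3 v4 v5 v6
  refine ⟨hS, swap a r * swap r (pt σ 1 p), hg, by simp [a, s, v1, v2, v3, v4, v5, v6], ?_⟩
  set g := swap a r * swap r (pt σ 1 p)
  have hout := fun v hv => h.chg_out hS hg (v := v) hv
  have s1 : St (σ * chg x g) p m' (pt σ 0 s) := seg_pt hout (v := s) (i := 0) v1 _ (by omega) (Or.inr (by omega)) (by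
    simp only [Finset.mem_insert, Finset.mem_singleton, forall_eq_or_imp, forall_eq]
    exact ⟨avoid_other (j := 0) b3, avoid_other b3, avoid_other (j := 0) b4, avoid_other b4,
      avoid_other (j := 0) c2, avoid_same (j := 0) (Or.inl ⟨le_rfl, by omega⟩)⟩)
  have s2 : St (σ * chg x g) s 1 (pt σ 0 a) := seg_pt hout (v := a) (i := -1) v2 1 one_pos (Or.inl (by omega)) (by
    simp only [Finset.mem_insert, Finset.mem_singleton, forall_eq_or_imp, forall_eq]
    exact ⟨avoid_other (j := 0) c1, avoid_other c1, avoid_same (j := 0) (Or.inr ⟨by omega, by omega⟩),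
      avoid_same (Or.inl ⟨le_rfl, by omega⟩), avoid_other (j := 0) a1, avoid_other (j := 0) a2⟩)
  have s3 : St (σ * chg x g) (pt σ (-1) a) 1 (pt σ 1 p) := seg_pt hout (v := p) (i := 0) v3 1 one_pos
    (Or.inl (by omega)) (by
    simp only [Finset.mem_insert, Finset.mem_singleton, forall_eq_or_imp, forall_eq]
    exact ⟨avoid_same (j := 0) (Or.inl ⟨le_rfl, by omega⟩), avoid_same (Or.inr ⟨by omega, by omega⟩),
      avoid_other (j := 0) t.ne, avoid_other t.ne, avoid_other (j := 0) h1, avoid_other (j := 0) h2⟩)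
  have s4 : St (σ * chg x g) a (m - 1) (pt σ 0 p) := seg_pt hout (v := p) (i := 1) v4 _ (by omega)
    (Or.inr (by omega)) (by
    simp only [Finset.mem_insert, Finset.mem_singleton, forall_eq_or_imp, forall_eq]
    exact ⟨avoid_same (j := 0) (Or.inl ⟨by omega, by omega⟩), avoid_same (Or.inl ⟨le_rfl, by omega⟩),
      avoid_other (j := 0) t.ne, avoid_other t.ne, avoid_other (j := 0) h1, avoid_other (j := 0) h2⟩)
  have s5 : St (σ * chg x g) (pt σ 1 p) m' (pt σ 0 r) := seg_pt hout (v := r) (i := 0) v5 _ (by omega)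
    (Or.inr (by omega)) (by
    simp only [Finset.mem_insert, Finset.mem_singleton, forall_eq_or_imp, forall_eq]
    exact ⟨avoid_other (j := 0) b1, avoid_other b1, avoid_other (j := 0) b2, avoid_other b2,
      avoid_same (j := 0) (Or.inl ⟨le_rfl, by omega⟩), avoid_other (j := 0) t'.ne⟩)
  have s6 : St (σ * chg x g) r (m - 1) (pt σ (-1) a) := seg_pt hout (v := a) (i := 0) v6 _ (by omega)
    (Or.inr (by omega)) (by
    simp only [Finset.mem_insert, Finset.mem_singleton, forall_eq_or_imp, forall_eq]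
    exact ⟨avoid_other (j := 0) c1, avoid_other c1, avoid_same (j := 0) (Or.inl ⟨le_rfl, by omega⟩),
      avoid_same (Or.inl ⟨by omega, by omega⟩), avoid_other (j := 0) a1, avoid_other (j := 0) a2⟩)
  simp only [pt_zero] at s1 s2 s4 s5
  have o1 : OddPer (σ * chg x g) p := ((s1.trans s2).trans s4).oddPer (by
    obtain ⟨c, hc⟩ := hep; obtain ⟨d, hd⟩ := hor
    exact ⟨c + d, by omega⟩)
  have o2 : OddPer (σ * chg x g) (pt σ (-1) a) := ((s3.trans s5).trans s6).oddPer (by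
    obtain ⟨c, hc⟩ := hep; obtain ⟨d, hd⟩ := hor
    exact ⟨c + d, by omega⟩)
  simp only [Finset.mem_insert, Finset.mem_singleton, forall_eq_or_imp, forall_eq]
  exact ⟨o1, s5.spread (s6.spread o2), s4.spread o1, o2, s6.spread o2, s2.spread (s4.spread o1)⟩

/-- A single twin pair of length at least four. -/
theorem move_twin_long (h : Invols x y) {p : α} (t : Twin x y p) (hep : Even (per (y * x) p))
    (h4 : 4 ≤ per (y * x) p) :
    Move x y {p, pt (y * x) 1 p, x p, pt (y * x) (-1) (x p), pt (y * x) (-2) (x p), pt (y * x) 2 p} := by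
  set σ := y * x
  set a := x p
  set m := per σ p
  have hma : per σ a = m := h.per_x p
  have c1 := t.symm h
  have H : Hexad x (pt σ 0 p) (pt σ 1 p) (pt σ 0 a) (pt σ (-1) a) (pt σ (-2) a) (pt σ 2 p) := by
    refine ⟨x_pt0 h p, x_pt1 h p, ?_, ?_, ?_, ?_, ?_⟩
    · rw [x_ptn h, h.x2]
    · rw [x_pt0 h, h.x2]
    · rw [x_ptn h, h.x2]
    · exact x_pt h 2 p
    · simp only [List.nodup_cons, List.mem_cons, List.not_mem_nil, or_false, not_or, List.nodup_nil, and_true,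
        not_false_eq_true]
      exact ⟨⟨ne_same (by norm_num) (by omega) (by omega), ne_sc t.ne _ _, ne_sc t.ne _ _, ne_sc t.ne _ _,
          ne_same (by norm_num) (by omega) (by omega)⟩,
        ⟨ne_sc t.ne _ _, ne_sc t.ne _ _, ne_sc t.ne _ _, ne_same (by norm_num) (by omega) (by omega)⟩,
        ⟨ne_same (by norm_num) (by omega) (by omega), ne_same (by norm_num) (by omega) (by omega), ne_sc c1 _ _⟩,
        ⟨ne_same (by norm_num) (by omega) (by omega), ne_sc c1 _ _⟩, ne_sc c1 _ _⟩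
  obtain ⟨hS, ⟨hg, v1, v2, v3, v4, v5, v6⟩, -⟩ := hexad_vals H
  simp only [pt_zero] at hS hg v1 v2 v3 v4 v5 v6
  refine ⟨hS, swap (pt σ (-1) a) (pt σ 2 p) * swap a (pt σ (-1) a), hg, by simp [a, v1, v2, v3, v4, v5, v6], ?_⟩
  set g := swap (pt σ (-1) a) (pt σ 2 p) * swap a (pt σ (-1) a)
  have hout := fun v hv => h.chg_out hS hg (v := v) hv
  have s1 : St (σ * chg x g) p 1 (pt σ (-1) a) := seg_pt hout (v := a) (i := -2) v1 1 one_pos (Or.inl (by omega)) (by
    simp only [Finset.mem_insert, Finset.mem_singleton, forall_eq_or_imp, forall_eq]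
    exact ⟨avoid_other (j := 0) c1, avoid_other c1, avoid_same (j := 0) (Or.inr ⟨by omega, by omega⟩),
      avoid_same (Or.inr ⟨by omega, by omega⟩), avoid_same (Or.inl ⟨le_rfl, by omega⟩), avoid_other c1⟩)
  have s2 : St (σ * chg x g) (pt σ (-1) a) (m - 2) (pt σ 0 p) := seg_pt hout (v := p) (i := 2) v5 _ (by omega)
    (Or.inr (by omega)) (by
    simp only [Finset.mem_insert, Finset.mem_singleton, forall_eq_or_imp, forall_eq]
    exact ⟨avoid_same (j := 0) (Or.inl ⟨by omega, by omega⟩), avoid_same (Or.inl ⟨by omega, by omega⟩),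
      avoid_other (j := 0) t.ne, avoid_other t.ne, avoid_other t.ne, avoid_same (Or.inl ⟨le_rfl, by omega⟩)⟩)
  have s3 : St (σ * chg x g) (pt σ (-2) a) 1 (pt σ 2 p) := seg_pt hout (v := p) (i := 1) v2 1 one_pos
    (Or.inl (by omega)) (by
    simp only [Finset.mem_insert, Finset.mem_singleton, forall_eq_or_imp, forall_eq]
    exact ⟨avoid_same (j := 0) (Or.inl ⟨by omega, by omega⟩), avoid_same (Or.inl ⟨le_rfl, by omega⟩),
      avoid_other (j := 0) t.ne, avoid_other t.ne, avoid_other t.ne, avoid_same (Or.inr ⟨by omega, by omega⟩)⟩)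
  have s4 : St (σ * chg x g) (pt σ 2 p) (m - 2) (pt σ (-2) a) := seg_pt hout (v := a) (i := 0) v6 _ (by omega)
    (Or.inr (by omega)) (by
    simp only [Finset.mem_insert, Finset.mem_singleton, forall_eq_or_imp, forall_eq]
    exact ⟨avoid_other (j := 0) c1, avoid_other c1, avoid_same (j := 0) (Or.inl ⟨le_rfl, by omega⟩),
      avoid_same (Or.inl ⟨by omega, by omega⟩), avoid_same (Or.inl ⟨by omega, by omega⟩), avoid_other c1⟩)
  have s5 : St (σ * chg x g) (pt σ 1 p) 1 (pt σ 1 p) := seg_pt hout (v := p) (i := 0) v3 1 one_pos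
    (Or.inl (by omega)) (by
    simp only [Finset.mem_insert, Finset.mem_singleton, forall_eq_or_imp, forall_eq]
    exact ⟨avoid_same (j := 0) (Or.inl ⟨le_rfl, by omega⟩), avoid_same (Or.inr ⟨by omega, by omega⟩),
      avoid_other (j := 0) t.ne, avoid_other t.ne, avoid_other t.ne, avoid_same (Or.inr ⟨by omega, by omega⟩)⟩)
  have s6 : St (σ * chg x g) a 1 (pt σ 0 a) := seg_pt hout (v := a) (i := -1) v4 1 one_pos (Or.inl (by omega)) (by
    simp only [Finset.mem_insert, Finset.mem_singleton, forall_eq_or_imp, forall_eq]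
    exact ⟨avoid_other (j := 0) c1, avoid_other c1, avoid_same (j := 0) (Or.inr ⟨by omega, by omega⟩),
      avoid_same (Or.inl ⟨le_rfl, by omega⟩), avoid_same (Or.inl ⟨by omega, by omega⟩), avoid_other c1⟩)
  simp only [pt_zero] at s2 s6
  have hodd : Odd (1 + (m - 2)) := by
    obtain ⟨c, hc⟩ := hep
    exact ⟨c - 1, by omega⟩
  have o1 : OddPer (σ * chg x g) p := (s1.trans s2).oddPer hodd
  have o2 : OddPer (σ * chg x g) (pt σ (-2) a) := (s3.trans s4).oddPer hodd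
  simp only [Finset.mem_insert, Finset.mem_singleton, forall_eq_or_imp, forall_eq]
  exact ⟨o1, s5.oddPer odd_one, s6.oddPer odd_one, s2.spread o1, o2, s4.spread o2⟩

/-- Three twin pairs. -/
theorem move_three (h : Invols x y) {p r₀ q : α} (tp : Twin x y p) (tr : Twin x y r₀) (tq : Twin x y q)
    (hep : Even (per (y * x) p)) (her : Even (per (y * x) r₀)) (heq : Even (per (y * x) q))
    (d1 : ¬ (y * x).SameCycle p r₀) (d2 : ¬ (y * x).SameCycle p (x r₀))
    (d3 : ¬ (y * x).SameCycle p q) (d4 : ¬ (y * x).SameCycle p (x q))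
    (d5 : ¬ (y * x).SameCycle r₀ q) (d6 : ¬ (y * x).SameCycle r₀ (x q)) :
    Move x y (({p, pt (y * x) 1 p, x p, pt (y * x) (-1) (x p), r₀, x r₀} : Finset α) ∪
      {q, pt (y * x) 1 q, x q, pt (y * x) (-1) (x q), pt (y * x) 1 r₀, pt (y * x) (-1) (x r₀)}) := by
  set σ := y * x
  set a := x p
  set c := x r₀
  set u := x q
  set m1 := per σ p
  set m2 := per σ r₀
  set m3 := per σ q
  have h1a : per σ a = m1 := h.per_x p
  have h2c : per σ c = m2 := h.per_x r₀
  have h3u : per σ u = m3 := h.per_x q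
  have hm1 := even_two hep
  have hm2 := even_two her
  have hm3 := even_two heq
  obtain ⟨⟨ar, ac⟩, ⟨rp, ra, cp, ca⟩, ap, cr⟩ := apart_four h tp tr d1 d2
  obtain ⟨⟨aq, au⟩, ⟨qp, qa, up, ua⟩, -, uq⟩ := apart_four h tp tq d3 d4
  obtain ⟨⟨cq, cu⟩, ⟨qr, qc, ur, uc⟩, -, -⟩ := apart_four h tr tq d5 d6
  have H1 : Hexad x (pt σ 0 p) (pt σ 1 p) (pt σ 0 a) (pt σ (-1) a) (pt σ 0 r₀) (pt σ 0 c) := by
    refine ⟨x_pt0 h p, x_pt1 h p, x_pt0 h r₀, ?_, ?_, ?_, ?_⟩
    · rw [x_pt0 h, h.x2]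
    · rw [x_ptn h, h.x2]
    · rw [x_pt0 h, h.x2]
    · simp only [List.nodup_cons, List.mem_cons, List.not_mem_nil, or_false, not_or, List.nodup_nil, and_true,
        not_false_eq_true]
      exact ⟨⟨ne_same (by norm_num) (by omega) (by omega), ne_sc tp.ne _ _, ne_sc tp.ne _ _, ne_sc d1 _ _, ne_sc d2 _ _⟩,
        ⟨ne_sc tp.ne _ _, ne_sc tp.ne _ _, ne_sc d1 _ _, ne_sc d2 _ _⟩,
        ⟨ne_same (by norm_num) (by omega) (by omega), ne_sc ar _ _, ne_sc ac _ _⟩,
        ⟨ne_sc ar _ _, ne_sc ac _ _⟩, ne_sc tr.ne _ _⟩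
  have H2 : Hexad x (pt σ 0 q) (pt σ 1 q) (pt σ 0 u) (pt σ (-1) u) (pt σ 1 r₀) (pt σ (-1) c) := by
    refine ⟨x_pt0 h q, x_pt1 h q, x_pt1 h r₀, ?_, ?_, ?_, ?_⟩
    · rw [x_pt0 h, h.x2]
    · rw [x_ptn h, h.x2]
    · rw [x_ptn h, h.x2]
    · simp only [List.nodup_cons, List.mem_cons, List.not_mem_nil, or_false, not_or, List.nodup_nil, and_true,
        not_false_eq_true]
      exact ⟨⟨ne_same (by norm_num) (by omega) (by omega), ne_sc tq.ne _ _, ne_sc tq.ne _ _, ne_sc qr _ _, ne_sc qc _ _⟩,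
        ⟨ne_sc tq.ne _ _, ne_sc tq.ne _ _, ne_sc qr _ _, ne_sc qc _ _⟩,
        ⟨ne_same (by norm_num) (by omega) (by omega), ne_sc ur _ _, ne_sc uc _ _⟩,
        ⟨ne_sc ur _ _, ne_sc uc _ _⟩, ne_sc tr.ne _ _⟩
  obtain ⟨hS1, ⟨hg1, v1, v2, v3, v4, v5, v6⟩, -⟩ := hexad_vals H1
  obtain ⟨hS2, -, hg2, w1, w2, w3, w4, w5, w6⟩ := hexad_vals H2
  simp only [pt_zero] at hS1 hg1 v1 v2 v3 v4 v5 v6 hS2 hg2 w1 w2 w3 w4 w5 w6
  set S1 : Finset α := {p, pt σ 1 p, a, pt σ (-1) a, r₀, c}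
  set S2 : Finset α := {q, pt σ 1 q, u, pt σ (-1) u, pt σ 1 r₀, pt σ (-1) c}
  have hd : Disjoint S1 S2 := by
    rw [Finset.disjoint_left]
    simp only [S1, S2, Finset.mem_insert, Finset.mem_singleton, not_or, forall_eq_or_imp, forall_eq]
    exact ⟨⟨ne_sc d3 0 0, ne_sc d3 0 1, ne_sc d4 0 0, ne_sc d4 0 _, ne_sc d1 0 1, ne_sc d2 0 _⟩,
      ⟨ne_sc d3 1 0, ne_sc d3 1 1, ne_sc d4 1 0, ne_sc d4 1 _, ne_sc d1 1 1, ne_sc d2 1 _⟩,
      ⟨ne_sc aq 0 0, ne_sc aq 0 1, ne_sc au 0 0, ne_sc au 0 _, ne_sc ar 0 1, ne_sc ac 0 _⟩,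
      ⟨ne_sc aq _ 0, ne_sc aq _ 1, ne_sc au _ 0, ne_sc au _ _, ne_sc ar _ 1, ne_sc ac _ _⟩,
      ⟨ne_sc d5 0 0, ne_sc d5 0 1, ne_sc d6 0 0, ne_sc d6 0 _, ne_same (i := 0) (by norm_num) (by omega) (by omega), ne_sc tr.ne 0 _⟩,
      ⟨ne_sc cq 0 0, ne_sc cq 0 1, ne_sc cu 0 0, ne_sc cu 0 _, ne_sc cr 0 1, ne_same (v := c) (i := 0) (j := -1) (by norm_num) (by omega) (by omega)⟩⟩
  set g1 := swap (pt σ (-1) a) c * swap a (pt σ (-1) a)
  set g2 := swap u (pt σ 1 r₀) * swap (pt σ 1 r₀) (pt σ 1 q)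
  set g := g1 * g2
  have hm' := h.chg_mul hd hS1 hg1 hS2 hg2
  have hmem : ∀ v ∈ S1 ∪ S2, x v ∈ S1 ∪ S2 := by
    intro v hv
    rcases Finset.mem_union.1 hv with hv | hv
    · exact Finset.mem_union_left _ (hS1 v hv)
    · exact Finset.mem_union_right _ (hS2 v hv)
  have hgs : ∀ v ∉ S1 ∪ S2, g v = v := fun v hv => by
    simp only [Finset.mem_union, not_or] at hv
    show g1 (g2 v) = v
    rw [hg2 v hv.2, hg1 v hv.1]
  have V1 := ((hm' _).1 (by simp [S1])).trans v1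
  have V2 := ((hm' _).1 (by simp [S1])).trans v2
  have V3 := ((hm' _).1 (by simp [S1])).trans v3
  have V4 := ((hm' _).1 (by simp [S1])).trans v4
  have V5 := ((hm' _).1 (by simp [S1])).trans v5
  have V6 := ((hm' _).1 (by simp [S1])).trans v6
  have W1 := ((hm' _).2.1 (by simp [S2])).trans w1
  have W2 := ((hm' _).2.1 (by simp [S2])).trans w2
  have W3 := ((hm' _).2.1 (by simp [S2])).trans w3
  have W4 := ((hm' _).2.1 (by simp [S2])).trans w4
  have W5 := ((hm' _).2.1 (by simp [S2])).trans w5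
  have W6 := ((hm' _).2.1 (by simp [S2])).trans w6
  refine ⟨hmem, g, hgs, by simp [S1, S2, g, a, c, u, V1, V2, V3, V4, V5, V6, W1, W2, W3, W4, W5, W6], ?_⟩
  have hout := fun v hv => h.chg_out hmem hgs (v := v) hv
  -- avoidance from each of the six cycles
  have avp : ∀ (i : ℤ) (l : ℕ), Avoid σ (pt σ i p) l (pt σ 0 p) → Avoid σ (pt σ i p) l (pt σ 1 p) →
      ∀ s ∈ S1 ∪ S2, Avoid σ (pt σ i p) l s := by
    intro i l e0 e1
    simp only [S1, S2, Finset.mem_union, Finset.mem_insert, Finset.mem_singleton, or_imp, forall_and, forall_eq]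
    exact ⟨⟨e0, e1, avoid_other (j := 0) tp.ne, avoid_other tp.ne, avoid_other (j := 0) d1, avoid_other (j := 0) d2⟩,
      avoid_other (j := 0) d3, avoid_other d3, avoid_other (j := 0) d4, avoid_other d4, avoid_other d1, avoid_other d2⟩
  have ava : ∀ (i : ℤ) (l : ℕ), Avoid σ (pt σ i a) l (pt σ 0 a) → Avoid σ (pt σ i a) l (pt σ (-1) a) →
      ∀ s ∈ S1 ∪ S2, Avoid σ (pt σ i a) l s := by
    intro i l e0 e1
    simp only [S1, S2, Finset.mem_union, Finset.mem_insert, Finset.mem_singleton, or_imp, forall_and, forall_eq]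
    exact ⟨⟨avoid_other (j := 0) ap, avoid_other ap, e0, e1, avoid_other (j := 0) ar, avoid_other (j := 0) ac⟩,
      avoid_other (j := 0) aq, avoid_other aq, avoid_other (j := 0) au, avoid_other au, avoid_other ar, avoid_other ac⟩
  have avr : ∀ (i : ℤ) (l : ℕ), Avoid σ (pt σ i r₀) l (pt σ 0 r₀) → Avoid σ (pt σ i r₀) l (pt σ 1 r₀) →
      ∀ s ∈ S1 ∪ S2, Avoid σ (pt σ i r₀) l s := by
    intro i l e0 e1
    simp only [S1, S2, Finset.mem_union, Finset.mem_insert, Finset.mem_singleton, or_imp, forall_and, forall_eq]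
    exact ⟨⟨avoid_other (j := 0) rp, avoid_other rp, avoid_other (j := 0) ra, avoid_other ra, e0, avoid_other (j := 0) tr.ne⟩,
      avoid_other (j := 0) d5, avoid_other d5, avoid_other (j := 0) d6, avoid_other d6, e1, avoid_other tr.ne⟩
  have avc : ∀ (i : ℤ) (l : ℕ), Avoid σ (pt σ i c) l (pt σ 0 c) → Avoid σ (pt σ i c) l (pt σ (-1) c) →
      ∀ s ∈ S1 ∪ S2, Avoid σ (pt σ i c) l s := by
    intro i l e0 e1
    simp only [S1, S2, Finset.mem_union, Finset.mem_insert, Finset.mem_singleton, or_imp, forall_and, forall_eq]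
    exact ⟨⟨avoid_other (j := 0) cp, avoid_other cp, avoid_other (j := 0) ca, avoid_other ca, avoid_other (j := 0) cr, e0⟩,
      avoid_other (j := 0) cq, avoid_other cq, avoid_other (j := 0) cu, avoid_other cu, avoid_other cr, e1⟩
  have avq : ∀ (i : ℤ) (l : ℕ), Avoid σ (pt σ i q) l (pt σ 0 q) → Avoid σ (pt σ i q) l (pt σ 1 q) →
      ∀ s ∈ S1 ∪ S2, Avoid σ (pt σ i q) l s := by
    intro i l e0 e1
    simp only [S1, S2, Finset.mem_union, Finset.mem_insert, Finset.mem_singleton, or_imp, forall_and, forall_eq]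
    exact ⟨⟨avoid_other (j := 0) qp, avoid_other qp, avoid_other (j := 0) qa, avoid_other qa, avoid_other (j := 0) qr, avoid_other (j := 0) qc⟩,
      e0, e1, avoid_other (j := 0) tq.ne, avoid_other tq.ne, avoid_other qr, avoid_other qc⟩
  have avu : ∀ (i : ℤ) (l : ℕ), Avoid σ (pt σ i u) l (pt σ 0 u) → Avoid σ (pt σ i u) l (pt σ (-1) u) →
      ∀ s ∈ S1 ∪ S2, Avoid σ (pt σ i u) l s := by
    intro i l e0 e1
    simp only [S1, S2, Finset.mem_union, Finset.mem_insert, Finset.mem_singleton, or_imp, forall_and, forall_eq]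
    exact ⟨⟨avoid_other (j := 0) up, avoid_other up, avoid_other (j := 0) ua, avoid_other ua, avoid_other (j := 0) ur, avoid_other (j := 0) uc⟩,
      avoid_other (j := 0) uq, avoid_other uq, e0, e1, avoid_other ur, avoid_other uc⟩
  have zero_fwd : ∀ {v : α}, 2 ≤ per σ v → Avoid σ (pt σ 0 v) 1 (pt σ 1 v) :=
    fun hv => avoid_same (Or.inr ⟨by omega, by omega⟩)
  -- first cycle
  have a1 : St (σ * chg x g) p 1 (pt σ 1 r₀) := seg_pt hout (v := r₀) (i := 0) V1 1 one_pos (Or.inl (by omega))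
    (avr 0 1 (avoid_same (Or.inl ⟨le_rfl, by omega⟩)) (zero_fwd hm2))
  have a2 : St (σ * chg x g) (pt σ 1 r₀) (m3 - 1) (pt σ (-1) u) := seg_pt hout (v := u) (i := 0) W6 _ (by omega)
    (Or.inr (by omega)) (avu 0 _ (avoid_same (Or.inl ⟨le_rfl, by omega⟩)) (avoid_same (Or.inl ⟨by omega, by omega⟩)))
  have a3 : St (σ * chg x g) (pt σ (-1) u) 1 (pt σ 1 q) := seg_pt hout (v := q) (i := 0) W3 1 one_pos (Or.inl (by omega))
    (avq 0 1 (avoid_same (Or.inl ⟨le_rfl, by omega⟩)) (zero_fwd hm3))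
  have a4 : St (σ * chg x g) (pt σ 1 q) (m2 - 1) (pt σ 0 r₀) := seg_pt hout (v := r₀) (i := 1) W5 _ (by omega)
    (Or.inr (by omega)) (avr 1 _ (avoid_same (Or.inl ⟨by omega, by omega⟩)) (avoid_same (Or.inl ⟨le_rfl, by omega⟩)))
  have a5 : St (σ * chg x g) r₀ (m1 - 1) (pt σ 0 p) := seg_pt hout (v := p) (i := 1) V2 _ (by omega)
    (Or.inr (by omega)) (avp 1 _ (avoid_same (Or.inl ⟨by omega, by omega⟩)) (avoid_same (Or.inl ⟨le_rfl, by omega⟩)))
  -- second cycle
  have b1 : St (σ * chg x g) u (m3 - 1) (pt σ 0 q) := seg_pt hout (v := q) (i := 1) W4 _ (by omega)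
    (Or.inr (by omega)) (avq 1 _ (avoid_same (Or.inl ⟨by omega, by omega⟩)) (avoid_same (Or.inl ⟨le_rfl, by omega⟩)))
  have b2 : St (σ * chg x g) q 1 (pt σ 0 c) := seg_pt hout (v := c) (i := -1) W1 1 one_pos (Or.inl (by omega))
    (avc (-1) 1 (avoid_same (Or.inr ⟨by omega, by omega⟩)) (avoid_same (Or.inl ⟨le_rfl, by omega⟩)))
  have b3 : St (σ * chg x g) c (m1 - 1) (pt σ (-1) a) := seg_pt hout (v := a) (i := 0) V6 _ (by omega)
    (Or.inr (by omega)) (ava 0 _ (avoid_same (Or.inl ⟨le_rfl, by omega⟩)) (avoid_same (Or.inl ⟨by omega, by omega⟩)))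
  have b4 : St (σ * chg x g) (pt σ (-1) a) (m2 - 1) (pt σ (-1) c) := seg_pt hout (v := c) (i := 0) V5 _ (by omega)
    (Or.inr (by omega)) (avc 0 _ (avoid_same (Or.inl ⟨le_rfl, by omega⟩)) (avoid_same (Or.inl ⟨by omega, by omega⟩)))
  have b5 : St (σ * chg x g) (pt σ (-1) c) 1 (pt σ 0 u) := seg_pt hout (v := u) (i := -1) W2 1 one_pos
    (Or.inl (by omega)) (avu (-1) 1 (avoid_same (Or.inr ⟨by omega, by omega⟩)) (avoid_same (Or.inl ⟨le_rfl, by omega⟩)))
  -- fixed points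
  have f1 : St (σ * chg x g) (pt σ 1 p) 1 (pt σ 1 p) := seg_pt hout (v := p) (i := 0) V3 1 one_pos (Or.inl (by omega))
    (avp 0 1 (avoid_same (Or.inl ⟨le_rfl, by omega⟩)) (zero_fwd hm1))
  have f2 : St (σ * chg x g) a 1 (pt σ 0 a) := seg_pt hout (v := a) (i := -1) V4 1 one_pos (Or.inl (by omega))
    (ava (-1) 1 (avoid_same (Or.inr ⟨by omega, by omega⟩)) (avoid_same (Or.inl ⟨le_rfl, by omega⟩)))
  simp only [pt_zero] at a4 a5 b1 b2 b5 f2
  have hodd : Odd (1 + (m3 - 1) + 1 + (m2 - 1) + (m1 - 1)) := by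
    obtain ⟨c1, hc1⟩ := hep; obtain ⟨c2, hc2⟩ := her; obtain ⟨c3, hc3⟩ := heq
    exact ⟨c1 + c2 + c3 - 1, by omega⟩
  have o1 : OddPer (σ * chg x g) p := ((((a1.trans a2).trans a3).trans a4).trans a5).oddPer hodd
  have o2 : OddPer (σ * chg x g) u := ((((b1.trans b2).trans b3).trans b4).trans b5).oddPer (by
    obtain ⟨c1, hc1⟩ := hep; obtain ⟨c2, hc2⟩ := her; obtain ⟨c3, hc3⟩ := heq
    exact ⟨c1 + c2 + c3 - 1, by omega⟩)
  have p4 := a5.spread o1
  have p3 := a4.spread p4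
  have p2 := a3.spread p3
  have p1 := a2.spread p2
  have q4 := b5.spread o2
  have q3 := b4.spread q4
  have q2 := b3.spread q3
  have q1 := b2.spread q2
  simp only [S1, S2, Finset.mem_union, Finset.mem_insert, Finset.mem_singleton, or_imp, forall_and, forall_eq]
  exact ⟨⟨o1, f1.oddPer odd_one, f2.oddPer odd_one, q3, p4, q2⟩, q1, p3, o2, p2, p1, q4⟩

end CfsgLib.Perm.OddProduct
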